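import Groth.Agent.RpushLib.Main
import Groth.Agent.CohBase.Natural
import Groth.Agent.ProperFin.Main
import Groth.Agent.DCohLib.Restrict

/-!
# Coherence of higher direct images under proper morphisms
-/

set_option autoImplicit false

universe u

open CategoryTheory Limits Opposite TopologicalSpace AlgebraicGeometry
open Groth.Agent.CohBase

noncomputable section

namespace Groth.Agent.RpushLib

/-- Endomorphisms act on degree zero classes through sections. -/
lemma hmap_H0Equiv_symm {T : Type u} [TopologicalSpace T] (U : Opens T) {F G : AbSh T} (φ : F ⟶ G)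
    (s : F.obj.obj (op U)) :
    hmap U φ 0 ((H0Equiv U F).symm s) = (H0Equiv U G).symm (φ.hom.app (op U) s) := by
  apply (H0Equiv U G).injective
  rw [H0Equiv_hmap, AddEquiv.apply_symm_apply, AddEquiv.apply_symm_apply]

section

variable {Y : Scheme.{u}} {T : ShortComplex Y.Modules} (hT : T.ShortExact)

/-- The connecting map in cohomology of modules. -/
def δH (n : ℕ) : Coh.HH Y T.X₃ n →ₗ[Coh.Γtop Y] Coh.HH Y T.X₁ (n + 1) where
  toFun x := (HHEquiv T.X₁ (n + 1)).symm (hδ (QCohLib.toAb_shortExact hT) ⊤ n (HHEquiv T.X₃ n x))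
  map_add' x y := (congrArg _ ((congrArg _ (map_add (HHEquiv T.X₃ n) x y)).trans (map_add _ _ _))).trans (map_add _ _ _)
  map_smul' r x := by
    refine (HHEquiv T.X₁ (n + 1)).injective ?_
    rw [AddEquiv.apply_symm_apply]
    show hδ (QCohLib.toAb_shortExact hT) ⊤ n (HEquiv (Coh.toAb T.X₃) n (Sheaf.H.map (Coh.smulAb T.X₃ r) n x)) =
      HEquiv (Coh.toAb T.X₁) (n + 1) (Sheaf.H.map (Coh.smulAb T.X₁ r) (n + 1)
        ((HHEquiv T.X₁ (n + 1)).symm _))
    rw [HEquiv_map, HEquiv_map]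
    refine ((hδ_naturality (QCohLib.toAb_shortExact hT) (QCohLib.toAb_shortExact hT)
      (ProperFin.smulSeq T r) ⊤ n _).symm.trans ?_)
    exact congrArg _ ((HHEquiv T.X₁ (n + 1)).apply_symm_apply _).symm

lemma δH_bijective (n : ℕ) (h : Subsingleton (HU (⊤ : Y.Opens) (Coh.toAb T.X₂) n))
    (h' : Subsingleton (HU (⊤ : Y.Opens) (Coh.toAb T.X₂) (n + 1))) : Function.Bijective (δH hT n) := by
  haveI : Subsingleton (HU (⊤ : Y.Opens) (T.map (QCohLib.toAbF Y)).X₂ n) := h
  haveI : Subsingleton (HU (⊤ : Y.Opens) (T.map (QCohLib.toAbF Y)).X₂ (n + 1)) := h'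
  exact (HHEquiv T.X₁ (n + 1)).symm.bijective.comp
    ((hδ_bijective (QCohLib.toAb_shortExact hT) ⊤ n).comp (HHEquiv T.X₃ n).bijective)

omit hT in
/-- Global sections as degree zero cohomology. -/
def h0Γ (N : Y.Modules) : Γ(N, ⊤) ≃+ Coh.HH Y N 0 :=
  (H0Equiv ⊤ (Coh.toAb N)).symm.trans (HHEquiv N 0).symm

omit hT in
lemma h0Γ_smul (N : Y.Modules) (r : Γ(Y, ⊤)) (x : Γ(N, ⊤)) :
    h0Γ N (r • x) = (show Coh.Γtop Y from r) • h0Γ N x := by
  refine (HHEquiv N 0).injective ?_
  refine ((HHEquiv N 0).apply_symm_apply _).trans ?_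
  refine Eq.trans ?_ (HEquiv_map (Coh.smulAb N r) 0 _).symm
  refine Eq.trans ?_ (congrArg (hmap ⊤ (Coh.smulAb N r) 0)
    ((HHEquiv N 0).apply_symm_apply ((H0Equiv ⊤ (Coh.toAb N)).symm x))).symm
  refine Eq.trans ?_ (hmap_H0Equiv_symm ⊤ (Coh.smulAb N r) x).symm
  refine congrArg (H0Equiv ⊤ (Coh.toAb N)).symm ?_
  refine Eq.trans ?_ (Coh.smulAb_app N r (op ⊤) x).symm
  have h1 : Coh.resTop Y (op ⊤) r = r := congr($((Y.ringCatSheaf.obj.map_id (op ⊤))) r)
  rw [h1]
  rfl

/-- The first connecting map on global sections. -/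
def δΓ : Γ(T.X₃, ⊤) →+ Coh.HH Y T.X₁ 1 :=
  (δH hT 0).toAddMonoidHom.comp (h0Γ T.X₃).toAddMonoidHom

lemma δΓ_smul (r : Γ(Y, ⊤)) (x : Γ(T.X₃, ⊤)) :
    δΓ hT (r • x) = (show Coh.Γtop Y from r) • δΓ hT x :=
  (congrArg (δH hT 0) (h0Γ_smul T.X₃ r x)).trans (map_smul (δH hT 0) _ _)

lemma δΓ_spec (h : Subsingleton (HU (⊤ : Y.Opens) (Coh.toAb T.X₂) 1)) :
    Function.Surjective (δΓ hT) ∧ ∀ s, δΓ hT s = 0 ↔ ∃ j, T.g.app ⊤ j = s := by
  let T' := T.map (QCohLib.toAbF Y)
  haveI : Subsingleton (HU (⊤ : Y.Opens) T'.X₂ 1) := h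
  have e : ∀ s, δΓ hT s = (HHEquiv T.X₁ 1).symm
      (hδ (QCohLib.toAb_shortExact hT) ⊤ 0 ((H0Equiv ⊤ T'.X₃).symm s)) := fun s =>
    congrArg (fun x => (HHEquiv T.X₁ 1).symm (hδ (QCohLib.toAb_shortExact hT) ⊤ 0 x))
      ((HHEquiv T.X₃ 0).apply_symm_apply _)
  refine ⟨fun x => ?_, fun s => ?_⟩
  · obtain ⟨y, hy⟩ := hδ_surjective (QCohLib.toAb_shortExact hT) ⊤ 0 (HHEquiv T.X₁ 1 x)
    refine ⟨H0Equiv ⊤ T'.X₃ y, (e _).trans ?_⟩
    rw [AddEquiv.symm_apply_apply]
    exact (congrArg _ hy).trans ((HHEquiv T.X₁ 1).symm_apply_apply x)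
  · rw [e, map_eq_zero_iff _ (HHEquiv T.X₁ 1).symm.injective]
    refine (hδ_eq_zero_iff _ _ _ _).trans ⟨?_, ?_⟩
    · rintro ⟨y, hy⟩
      refine ⟨H0Equiv ⊤ T'.X₂ y, ?_⟩
      refine (H0Equiv_hmap ⊤ T'.g y).symm.trans ?_
      rw [hy]
      exact (H0Equiv ⊤ T'.X₃).apply_symm_apply s
    · rintro ⟨j, rfl⟩
      refine ⟨(H0Equiv ⊤ T'.X₂).symm j, (H0Equiv ⊤ T'.X₃).injective ?_⟩
      rw [H0Equiv_hmap, AddEquiv.apply_symm_apply]
      exact ((H0Equiv ⊤ T'.X₃).apply_symm_apply _).symm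

end

variable {X : Scheme.{u}} {M : X.Modules} (R : InjectiveResolution M) (U : X.Opens)

/-- The sequence of cycles on an open subscheme. -/
abbrev seqU (p : ℕ) : ShortComplex U.toScheme.Modules :=
  (seq R p).map (Scheme.Modules.restrictFunctor U.ι)

lemma seqU_shortExact (p : ℕ) : (seqU R U p).ShortExact :=
  (seq_shortExact R p).map_of_exact _

lemma subsingleton_seqU (p n : ℕ) :
    Subsingleton (HU (⊤ : U.toScheme.Opens) (Coh.toAb (seqU R U p).X₂) (n + 1)) :=
  haveI : TopCat.Sheaf.IsFlasque (Coh.toAb (seqU R U p).X₂) :=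
    LocZLib.isFlasque_of_surjective _ fun h =>
      surjective_rM_injective (R.cocomplex.X p) (U.ι.image_mono h)
  LocZLib.subsingleton_HU_flasque _ n (Coh.toAb (seqU R U p).X₂)

/-- Finiteness of the cohomology of the cycles. -/
theorem finite_HH_seqU {A : Type u} [CommRing A] [IsNoetherianRing A] (ψ : A →+* Coh.Γtop U.toScheme)
    (h : ProperFin.AllFin ψ (M.restrict U.ι)) : ∀ (p m : ℕ),
      @Module.Finite A (Coh.HH U.toScheme (seqU R U p).X₁ (m + 1)) _ _ (Module.compHom _ ψ) := by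
  intro p
  induction p with
  | zero =>
    intro m
    exact (h.of_iso ψ ((Scheme.Modules.restrictFunctor U.ι).mapIso (zeroIso R))) (m + 1)
  | succ p ih =>
    intro m
    let N := (seqU R U p).X₃
    show @Module.Finite A (Coh.HH U.toScheme N (m + 1)) _ _ (Module.compHom _ ψ)
    letI := Module.compHom (Coh.HH U.toScheme N (m + 1)) ψ
    letI := Module.compHom (Coh.HH U.toScheme (seqU R U p).X₁ (m + 1 + 1)) ψ
    haveI := ih (m + 1)
    let L : Coh.HH U.toScheme N (m + 1) →ₗ[A] Coh.HH U.toScheme (seqU R U p).X₁ (m + 1 + 1) :=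
      { toFun := δH (seqU_shortExact R U p) (m + 1)
        map_add' := map_add _
        map_smul' := fun a x => map_smul (δH (seqU_shortExact R U p) (m + 1)) (ψ a) x }
    exact Module.Finite.of_injective L
      (δH_bijective (seqU_shortExact R U p) (m + 1) (subsingleton_seqU R U p m) (subsingleton_seqU R U p (m + 1))).1

/-- Restriction to the open subscheme respects scalars. -/
lemma rM_smul_restrict (N : X.Modules) (U : X.Opens) (h : U.ι ''ᵁ ⊤ ≤ U) (a : Γ(X, U)) (x : Γ(N, U)) :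
    (show Γ(N.restrict U.ι, ⊤) from rM N h (a • x)) = U.topIso.inv a • (show Γ(N.restrict U.ι, ⊤) from rM N h x) := by
  refine (Scheme.Modules.map_smul N (homOfLE h) a x).trans ?_
  change _ = (U.ι.appIso ⊤).inv (U.topIso.inv a) • rM N h x
  rw [Scheme.Opens.ι_appIso]
  rfl

variable {S : Scheme.{u}} (f : X ⟶ S)

/-- The functions on an affine open, on its preimage. -/
def preTop (W : S.Opens) : Γ(S, W) →+* Coh.Γtop (f ⁻¹ᵁ W).toScheme :=
  (f ⁻¹ᵁ W).topIso.inv.hom.comp (f.app W).hom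

lemma app_map_map {W W' : S.Opens} (j : W' ⟶ W) {V : X.Opens} (i : V ⟶ f ⁻¹ᵁ W') (k : V ⟶ f ⁻¹ᵁ W) (a : Γ(S, W)) :
    X.presheaf.map i.op (f.app W' (S.presheaf.map j.op a)) = X.presheaf.map k.op (f.app W a) := by
  rw [← CategoryTheory.ConcreteCategory.comp_apply (S.presheaf.map j.op), f.naturality,
    CategoryTheory.ConcreteCategory.comp_apply, ← CategoryTheory.ConcreteCategory.comp_apply, ← Functor.map_comp]
  rfl

lemma toGlobal_eq {W : S.Opens} (hW : IsAffineOpen W) :
    Coh.toGlobal ((f ∣_ W) ≫ hW.isoSpec.hom) = preTop f W := by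
  show ((f ∣_ W) ≫ hW.isoSpec.hom).appTop.hom.comp (Scheme.ΓSpecIso Γ(S, W)).inv.hom = _
  rw [Scheme.Hom.comp_appTop, IsAffineOpen.isoSpec_hom_appTop, morphismRestrict_appTop]
  ext a
  simp [preTop, Scheme.Opens.topIso]
  exact app_map_map f _ _ _ a

variable [QuasiCompact f] [QuasiSeparated f] [Coh.IsQCoh M]

/-- Sections of the cokernel are finite when the cohomology is. -/
theorem finite_coker (p : ℕ) {W : S.Opens} (hW : IsAffineOpen W) [IsNoetherianRing Γ(S, W)]
    (h : ProperFin.AllFin (preTop f W) (M.restrict (f ⁻¹ᵁ W).ι)) :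
    Module.Finite Γ(S, W) Γ(cokernel (pushπ f R p), W) := by
  let U := f ⁻¹ᵁ W
  have hU : U.ι ''ᵁ ⊤ = U := Scheme.Opens.ι_image_top U
  obtain ⟨hs, hk⟩ := δΓ_spec (seqU_shortExact R U p) (subsingleton_seqU R U p 0)
  let H := Coh.HH U.toScheme (seqU R U p).X₁ 1
  letI : Module Γ(S, W) H := Module.compHom H (preTop f W)
  haveI : Module.Finite Γ(S, W) H := finite_HH_seqU R U (preTop f W) h p 0
  let t : Γ(Z R (p + 1), U) →+ Γ((seqU R U p).X₃, ⊤) := rM (Z R (p + 1)) hU.le
  have ht : Function.Bijective t :=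
    ⟨Function.LeftInverse.injective (g := rM (Z R (p + 1)) hU.ge) fun z =>
      (rM_rM _ _ _ _).trans (restr_self _ _ _),
    fun b => ⟨rM (Z R (p + 1)) hU.ge b, (rM_rM _ _ _ _).trans (restr_self _ _ _)⟩⟩
  let θ : Γ((Scheme.Modules.pushforward f).obj (Z R (p + 1)), W) →ₗ[Γ(S, W)] H :=
    { toFun := fun s => δΓ (seqU_shortExact R U p) (t s)
      map_add' := fun a b => by rw [← map_add (δΓ (seqU_shortExact R U p)), ← map_add t]; rfl
      map_smul' := fun a s => by
        show _ = preTop f W a • δΓ (seqU_shortExact R U p) (t s)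
        refine Eq.trans ?_ (δΓ_smul _ _ _)
        exact congrArg _ (rM_smul_restrict _ U hU.le (f.app W a) _) }
  let q := QCohLib.appLinear (cokernel.π (pushπ f R p)) W
  have hl := locImage f R p
  have hq : Function.Surjective q := hl.coker_surjective hW
  have hker : LinearMap.ker θ ≤ LinearMap.ker q := by
    intro s hs'
    obtain ⟨j, hj⟩ := (hk _).mp (LinearMap.mem_ker.mp hs')
    let j' : Γ(R.cocomplex.X p, U) := rM (R.cocomplex.X p) hU.ge j
    have : (zπ R p).app U j' = s := by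
      refine ht.1 ?_
      show rM _ hU.le ((zπ R p).app U j') = t s
      rw [← app_rM, show rM (R.cocomplex.X p) hU.le j' = j from (rM_rM _ _ _ _).trans (restr_self _ _ _)]
      exact hj
    exact LinearMap.mem_ker.mpr ((congrArg q this).symm.trans (coker_app_app (φ := pushπ f R p) W j'))
  have hθ : Function.Surjective θ := hs.comp ht.2
  let e := θ.quotKerEquivOfSurjective hθ
  let g : H →ₗ[Γ(S, W)] Γ(cokernel (pushπ f R p), W) :=
    ((LinearMap.ker θ).liftQ q hker).comp e.symm.toLinearMap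
  refine Module.Finite.of_surjective g fun y => ?_
  obtain ⟨s, rfl⟩ := hq y
  exact ⟨e (Submodule.Quotient.mk s), by
    simp only [g, LinearMap.comp_apply, LinearEquiv.coe_coe, LinearEquiv.symm_apply_apply, Submodule.liftQ_apply]⟩

omit [QuasiCompact f] [QuasiSeparated f] [Coh.IsQCoh M] in
/-- Finiteness of cohomology over affine opens of the base. -/
theorem allFin_preTop [IsProper f] [IsLocallyNoetherian S] (hM : Coh.IsCoh M) {W : S.Opens}
    (hW : IsAffineOpen W) : ProperFin.AllFin (preTop f W) (M.restrict (f ⁻¹ᵁ W).ι) := by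
  haveI := QCohLib.isNoetherianRing_section hW
  haveI : IsLocallyNoetherian X := LocallyOfFiniteType.isLocallyNoetherian f
  haveI : CompactSpace (f ⁻¹ᵁ W).toScheme := isCompact_iff_compactSpace.mp (f.isCompact_preimage hW.isCompact)
  haveI : IsNoetherian (f ⁻¹ᵁ W).toScheme := ⟨⟩
  let p : (f ⁻¹ᵁ W).toScheme ⟶ Spec (CommRingCat.of Γ(S, W)) := (f ∣_ W) ≫ hW.isoSpec.hom
  haveI : IsProper (f ∣_ W) := MorphismProperty.of_isPullback (isPullback_morphismRestrict f W).flip ‹_›
  rw [← toGlobal_eq f hW]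
  exact ProperFin.allFin_of_isCoh p _ (ProjCoh.isCoh_of_iso
    ((Scheme.Modules.restrictFunctorIsoPullback (f ⁻¹ᵁ W).ι).app M).symm (PullbackMod.isCoh_pullback _ M hM))

/-- Direct images of coherent modules under proper morphisms are coherent. -/
theorem isCoh_push [IsProper f] [IsLocallyNoetherian S] (hM : Coh.IsCoh M) :
    Coh.IsCoh ((Scheme.Modules.pushforward f).obj M) := by
  haveI := QCohLib.isQCoh_pushforward M f
  refine QCohLib.isCoh_of_finite _ fun W hW => ?_
  let U := f ⁻¹ᵁ W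
  have hU : U.ι ''ᵁ ⊤ = U := Scheme.Opens.ι_image_top U
  let H := Coh.HH U.toScheme (M.restrict U.ι) 0
  letI : Module Γ(S, W) H := Module.compHom H (preTop f W)
  haveI : Module.Finite Γ(S, W) H := allFin_preTop f hM hW 0
  let t : Γ(M, U) →+ Γ(M.restrict U.ι, ⊤) := rM M hU.le
  have ht : Function.Injective t :=
    Function.LeftInverse.injective (g := rM M hU.ge) fun z => (rM_rM _ _ _ _).trans (restr_self _ _ _)
  let θ : Γ((Scheme.Modules.pushforward f).obj M, W) →ₗ[Γ(S, W)] H :=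
    { toFun := fun s => h0Γ (M.restrict U.ι) (t s)
      map_add' := fun a b => by rw [← map_add (h0Γ (M.restrict U.ι)), ← map_add t]; rfl
      map_smul' := fun a s => by
        show _ = preTop f W a • h0Γ (M.restrict U.ι) (t s)
        refine Eq.trans ?_ (h0Γ_smul _ _ _)
        exact congrArg _ (rM_smul_restrict _ U hU.le (f.app W a) _) }
  haveI := QCohLib.isNoetherianRing_section hW
  exact Module.Finite.of_injective θ ((h0Γ (M.restrict U.ι)).injective.comp ht)

/-- Higher direct images of coherent modules under proper morphisms are coherent. -/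
theorem isCoh_rpush [IsProper f] [IsLocallyNoetherian S] [HasInjectiveResolutions X.Modules]
    (hM : Coh.IsCoh M) (p : ℕ) : Coh.IsCoh ((Coh.Rpush f p).obj M) := by
  cases p with
  | zero =>
    exact ProjCoh.isCoh_of_iso ((Scheme.Modules.pushforward f).rightDerivedZeroIsoSelf.app M).symm (isCoh_push f hM)
  | succ p =>
    let R := injectiveResolution M
    haveI : Coh.IsQCoh (cokernel (pushπ f R p)) := (locImage f R p).isQCoh_coker
    refine ProjCoh.isCoh_of_iso (rpushIso f R p).symm (QCohLib.isCoh_of_finite _ fun W hW => ?_)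
    haveI := QCohLib.isNoetherianRing_section hW
    exact finite_coker R f p hW (allFin_preTop f hM hW)

end Groth.Agent.RpushLib
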