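import Groth.Agent.RpushLib.Main
import Groth.Agent.SpSeqLib.AcyclicResolution
import Groth.Agent.CohTopEasy.Basic
import Groth.Agent.DCohLib.Adjoint

/-!
# Higher direct images of modules and of abelian sheaves
-/

set_option autoImplicit false

universe u

open CategoryTheory Limits Opposite TopologicalSpace AlgebraicGeometry
open Groth.Agent.CohBase

noncomputable section

namespace Groth.Agent.RpushLib

variable {X Y : Scheme.{u}}

instance : PreservesFiniteColimits (QCohLib.toAbF X) :=
  haveI : (QCohLib.toAbF X).PreservesHomology :=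
    Functor.preservesHomology_of_preservesEpis_and_kernels _
  Functor.preservesFiniteColimits_of_preservesHomology _

instance (f : X ⟶ Y) : PreservesFiniteLimits (Coh.pushAb f) :=
  haveI : PreservesLimitsOfSize.{0, 0} (Coh.pushAb f) :=
    (TopCat.Sheaf.pullbackPushforwardAdjunction AddCommGrpCat.{u} f.base).rightAdjoint_preservesLimits
  inferInstance

/-- Higher direct images commute with forgetting the module structure. -/
def toAbRpushIso [HasInjectiveResolutions X.Modules] (f : X ⟶ Y) (n : ℕ) :
    Coh.Rpush f n ⋙ QCohLib.toAbF Y ≅ QCohLib.toAbF X ⋙ Coh.RpushAb f n :=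
  (SpSeqLib.rightDerivedPostcompIso (Scheme.Modules.pushforward f) (QCohLib.toAbF Y) n).symm ≪≫
    SpSeqLib.rightDerivedCongr (F := Scheme.Modules.pushforward f ⋙ QCohLib.toAbF Y)
      (G := QCohLib.toAbF X ⋙ Coh.pushAb f)
      (NatIso.ofComponents (fun _ => Iso.refl _) (fun {_ _} _ => rfl)) n ≪≫
    SpSeqLib.rightDerivedPrecompAcyclicIso (QCohLib.toAbF X) (Coh.pushAb f) (fun I _ p =>
      haveI : TopCat.Sheaf.IsFlasque ((QCohLib.toAbF X).obj I) :=
        LocZLib.isFlasque_of_surjective _ fun h => surjective_rM_injective I h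
      CohTopEasy.isZero_Rpush_flasque f.base _ p) n

end Groth.Agent.RpushLib
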