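import Groth.Agent.RpushLib.Resolution
import Groth.Prelude.Def_Coh
import Mathlib.CategoryTheory.Limits.Preserves.Shapes.Kernels
import Mathlib.CategoryTheory.Adjunction.Limits

/-!
# Higher direct images of quasi-coherent modules

`R^(p+1) f_* M` is the cokernel of the pushforward of `X_p → Z_(p+1)`, for an injective resolution `X`.
-/

set_option autoImplicit false

universe u

open CategoryTheory Limits Opposite TopologicalSpace AlgebraicGeometry
open Groth.Agent.CohBase

noncomputable section

namespace Groth.Agent.RpushLib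

variable {X S : Scheme.{u}} (f : X ⟶ S)

instance preservesFiniteLimits_pushforward : PreservesFiniteLimits (Scheme.Modules.pushforward f) :=
  haveI : PreservesLimitsOfSize.{0, 0} (Scheme.Modules.pushforward f) :=
    (Scheme.Modules.pullbackPushforwardAdjunction f).rightAdjoint_preservesLimits
  inferInstance

lemma push_sc (M : X.Modules) {W V : S.Opens} (g : Γ(S, W)) (h : V ≤ W) (s : Γ(M, f ⁻¹ᵁ V)) :
    sc (M := (Scheme.Modules.pushforward f).obj M) g h s = sc (f.app W g) (f.preimage_mono h) s := by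
  change f.app V (S.presheaf.map (homOfLE h).op g) • s =
    X.presheaf.map (homOfLE (f.preimage_mono h)).op (f.app W g) • s
  rw [← CategoryTheory.ConcreteCategory.comp_apply, f.naturality, CategoryTheory.ConcreteCategory.comp_apply]
  rfl

variable {M : X.Modules} (R : InjectiveResolution M)

/-- The pushforward of `X_p → Z_(p+1)`. -/
abbrev pushπ (p : ℕ) :
    (Scheme.Modules.pushforward f).obj (R.cocomplex.X p) ⟶
      (Scheme.Modules.pushforward f).obj (Z R (p + 1)) :=
  (Scheme.Modules.pushforward f).map (zπ R p)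

/-- Higher direct images as cokernels. -/
def rpushIso [HasInjectiveResolutions X.Modules] (p : ℕ) :
    (Coh.Rpush f (p + 1)).obj M ≅ cokernel (pushπ f R p) := by
  let G := Scheme.Modules.pushforward f
  let K := (G.mapHomologicalComplex _).obj R.cocomplex
  let hi := isLimitForkMapOfIsLimit' G (kernel.condition (R.cocomplex.d (p + 1) (p + 2)))
    (kernelIsKernel (R.cocomplex.d (p + 1) (p + 2)))
  let f' := hi.lift (KernelFork.ofι (G.map (R.cocomplex.d p (p + 1)))
    ((G.map_comp _ _).symm.trans ((congrArg G.map (R.cocomplex.d_comp_d _ _ _)).trans (G.map_zero _ _))))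
  have e : f' = pushπ f R p := by
    refine Fork.IsLimit.hom_ext hi ?_
    refine (Fork.IsLimit.lift_ι hi).trans ?_
    exact (congrArg G.map (zπ_ι R p)).symm.trans (G.map_comp _ _)
  let h : (K.sc' p (p + 1) (p + 2)).LeftHomologyData :=
    { K := G.obj (Z R (p + 1))
      H := cokernel (pushπ f R p)
      i := G.map (zι R (p + 1))
      π := cokernel.π _
      wi := (G.map_comp _ _).symm.trans ((congrArg G.map (kernel.condition _)).trans (G.map_zero _ _))
      hi := hi
      wπ := (congrArg (· ≫ cokernel.π (pushπ f R p)) e).trans (cokernel.condition _)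
      hπ := CokernelCofork.IsColimit.ofπ _ _
        (fun g hg => cokernel.desc _ g ((congrArg (· ≫ g) e).symm.trans hg))
        (fun g hg => cokernel.π_desc _ _ _)
        (fun g hg m hm => (cancel_epi (cokernel.π (pushπ f R p))).mp (hm.trans (cokernel.π_desc _ _ _).symm)) }
  exact R.isoRightDerivedObj G (p + 1) ≪≫ K.homologyIsoSc' p (p + 1) (p + 2) (by simp) (by simp) ≪≫ h.homologyIso

variable [QuasiCompact f] [QuasiSeparated f] [Coh.IsQCoh M]

theorem locImage (p : ℕ) : LocImage (pushπ f R p) := by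
  refine ⟨fun W hW g s => ?_, fun W hW g t => ?_⟩
  · rintro ⟨j, hj⟩
    have hc : IsCompact ((f ⁻¹ᵁ W : X.Opens) : Set X) := f.isCompact_preimage hW.isCompact
    have hq : IsQuasiSeparated ((f ⁻¹ᵁ W : X.Opens) : Set X) := f.isQuasiSeparated_preimage hW.isQuasiSeparated
    have he : (f ⁻¹ᵁ W) ⊓ X.basicOpen (f.app W g) = f ⁻¹ᵁ S.basicOpen g := by
      rw [Scheme.preimage_basicOpen, inf_eq_right.mpr (X.basicOpen_le _)]
    let s' : Γ(Z R (p + 1), f ⁻¹ᵁ W) := s
    let j' : Γ(R.cocomplex.X p, f ⁻¹ᵁ S.basicOpen g) := j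
    have hj' : (zπ R p).app _ j' = rM _ (f.preimage_mono (S.basicOpen_le g)) s' := hj
    obtain ⟨n, k, hk⟩ := (locOn R hq (f.app W g) p).kill (f ⁻¹ᵁ W) le_rfl hc s'
      ⟨rM _ he.le j', by rw [app_rM, hj', rM_rM]⟩
    exact ⟨n, k, hk.trans (by rw [push_sc, map_pow])⟩
  · have hc : IsCompact ((f ⁻¹ᵁ W : X.Opens) : Set X) := f.isCompact_preimage hW.isCompact
    have hq : IsQuasiSeparated ((f ⁻¹ᵁ W : X.Opens) : Set X) := f.isQuasiSeparated_preimage hW.isQuasiSeparated
    have he : (f ⁻¹ᵁ W) ⊓ X.basicOpen (f.app W g) = f ⁻¹ᵁ S.basicOpen g := by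
      rw [Scheme.preimage_basicOpen, inf_eq_right.mpr (X.basicOpen_le _)]
    let t' : Γ(Z R (p + 1), f ⁻¹ᵁ S.basicOpen g) := t
    obtain ⟨n, k, hk⟩ := (locOn R hq (f.app W g) p).ext (f ⁻¹ᵁ W) le_rfl hc (rM _ he.le t')
    refine ⟨n, k, ?_⟩
    have h' := congrArg (rM (Z R (p + 1)) he.ge) hk
    rw [rM_rM, rM_sc, rM_rM] at h'
    rw [push_sc, map_pow]
    exact h'.trans (congrArg _ (restr_self _ _ t'))

/-- Higher direct images of quasi-coherent modules are quasi-coherent. -/
theorem isQCoh_rpush [HasInjectiveResolutions X.Modules] (p : ℕ) : Coh.IsQCoh ((Coh.Rpush f p).obj M) := by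
  cases p with
  | zero =>
    exact (SheafOfModules.isQuasicoherent S.ringCatSheaf).prop_of_iso
      ((Scheme.Modules.pushforward f).rightDerivedZeroIsoSelf.app M).symm (QCohLib.isQCoh_pushforward M f)
  | succ p =>
    exact (SheafOfModules.isQuasicoherent S.ringCatSheaf).prop_of_iso
      (rpushIso f (injectiveResolution M) p).symm
      (locImage f (injectiveResolution M) p).isQCoh_coker

/-- Sections of higher direct images over affine opens. -/
theorem nonempty_sections [HasInjectiveResolutions X.Modules] (p : ℕ) {W : S.Opens} (hW : IsAffineOpen W) :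
    Nonempty (Γ((Coh.Rpush f (p + 1)).obj M, W) ≃+ HU (f ⁻¹ᵁ W) (Coh.toAb M) (p + 1)) := by
  let R := injectiveResolution M
  obtain ⟨θ, hθs, hθk⟩ := exists_hom_HU R (f ⁻¹ᵁ W) p
  have hl := locImage f R p
  let c := cokernel.π (pushπ f R p)
  let q : Γ(Z R (p + 1), f ⁻¹ᵁ W) →+ Γ(cokernel (pushπ f R p), W) := (c.app W).hom
  have hq : Function.Surjective q := hl.coker_surjective hW
  have hk : q.ker = θ.ker := by
    ext s
    rw [AddMonoidHom.mem_ker, AddMonoidHom.mem_ker, hθk]
    exact ⟨fun h => hl.coker_exact hW s h, fun ⟨j, hj⟩ => (congrArg q hj).symm.trans (coker_app_app (φ := pushπ f R p) W j)⟩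
  let i : Γ((Coh.Rpush f (p + 1)).obj M, W) ≃+ Γ(cokernel (pushπ f R p), W) :=
    (((Scheme.Modules.toPresheaf S).mapIso (rpushIso f R p)).app (op W)).addCommGroupIsoToAddEquiv
  exact ⟨i.trans (((QuotientAddGroup.quotientKerEquivOfSurjective q hq).symm.trans
    (QuotientAddGroup.quotientAddEquivOfEq hk)).trans
    (QuotientAddGroup.quotientKerEquivOfSurjective θ hθs))⟩

end Groth.Agent.RpushLib
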