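import Groth.Agent.CohBase.Affine
import Groth.Agent.CohBase.Push
import Groth.Prelude.Def_Coh
import Mathlib.AlgebraicGeometry.Morphisms.QuasiSeparated

/-!
# Uniform vanishing of higher direct images
-/

set_option autoImplicit false

universe u

open CategoryTheory Limits Opposite TopologicalSpace AlgebraicGeometry
open Groth.Agent.CohBase

noncomputable section

namespace Groth.Agent.RpushLib

/-- Higher direct images vanish in a degree where cohomology over a basis does. -/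
theorem isZero_rightDerived_at {X Y : TopCat.{u}} (f : X ⟶ Y) [(pushS f).Additive] {B : Opens Y → Prop}
    (hB : ∀ (W : Opens Y) (y : Y), y ∈ W → ∃ V, B V ∧ y ∈ V ∧ V ≤ W) (F : AbSh X) (n : ℕ)
    (hF : ∀ V, B V → Subsingleton (HU (pre f V) F (n + 1))) :
    IsZero (((pushS f).rightDerived (n + 1)).obj F) := by
  let R : InjectiveResolution F := Classical.choice HasInjectiveResolution.out
  refine IsZero.of_iso ?_ (R.isoRightDerivedObj (pushS f) (n + 1))
  change IsZero (HomologicalComplex.homology _ (n + 1))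
  rw [← HomologicalComplex.exactAt_iff_isZero_homology,
    HomologicalComplex.exactAt_iff' _ n (n + 1) (n + 2) (by simp) (by simp)]
  refine exact_of_local _ fun W s hs y hy => ?_
  obtain ⟨V, hV, hyV, hVW⟩ := hB W y hy
  refine ⟨V, hVW, hyV, ?_⟩
  haveI := hF V hV
  let s' : (R.cocomplex.X (n + 1)).obj.obj (op (pre f V)) :=
    res (R.cocomplex.X (n + 1)).obj (pre_mono f hVW) s
  have hs' : (R.cocomplex.d (n + 1) (n + 2)).hom.app (op (pre f V)) s' = 0 := by
    rw [← res_map]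
    exact (congrArg _ hs).trans (map_zero _)
  have hc : (secEquiv (pre f V) _).symm s' ≫ R.cocomplex.d (n + 1) (n + 2) = 0 := by
    rw [secEquiv_symm_comp, hs', map_zero]
  obtain ⟨g, hg⟩ := (R.extMk_eq_zero_iff ((secEquiv (pre f V) _).symm s') (n + 2) rfl hc n rfl).mp
    (Subsingleton.elim (α := HU (pre f V) F (n + 1)) _ _)
  refine ⟨secEquiv (pre f V) _ g, ?_⟩
  change (R.cocomplex.d n (n + 1)).hom.app (op (pre f V)) _ = s'
  rw [← secEquiv_comp, hg, AddEquiv.apply_symm_apply]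

variable {X : Scheme.{u}}

/-- Vanishing on the trace of a principal open of a quasi-separated open, uniformly in the function. -/
theorem exists_bound_basicOpen {W : X.Opens} (hW : IsQuasiSeparated (W : Set X)) (V : X.Opens)
    (hV : V ≤ W) (hc : IsCompact (V : Set X)) :
    ∃ d : ℕ, ∀ (M : X.Modules), Coh.IsQCoh M → ∀ (a : Γ(X, W)) (p : ℕ), d ≤ p →
      Subsingleton (HU (V ⊓ X.basicOpen a) (Coh.toAb M) p) := by
  revert hV
  refine compact_open_induction_on V hc ?_ ?_
  · intro _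
    refine ⟨0, fun M _ a p _ => ?_⟩
    rw [bot_inf_eq]
    exact subsingleton_HU_bot _ p
  intro S hSc ⟨U, hU⟩ ih hV
  have hS : S ≤ W := le_sup_left.trans hV
  have hUW : U ≤ W := le_sup_right.trans hV
  obtain ⟨d, hd⟩ := ih hS
  obtain ⟨t, B, hB, hBeq⟩ := exists_fin_basic hU (V := S ⊓ U) inf_le_right
    (hW S U hS S.2 hSc hUW U.2 hU.isCompact)
  refine ⟨d + t + 1, fun M hM a p hp => ?_⟩
  obtain ⟨n, rfl⟩ : ∃ n, p = n + 1 := ⟨p - 1, by omega⟩
  let b : Γ(X, U) := X.presheaf.map (homOfLE hUW).op a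
  have hb : X.basicOpen b = U ⊓ X.basicOpen a := X.basicOpen_res a (homOfLE hUW).op
  haveI : Subsingleton (HU ((S ⊓ X.basicOpen a) ⊓ (U ⊓ X.basicOpen a)) (Coh.toAb M) n) := by
    rw [← inf_inf_distrib_right, show (S ⊓ U) ⊓ X.basicOpen a = (⨆ i, B i ⊓ X.basicOpen b) by
      rw [← iSup_inf_eq, ← hBeq, hb, ← inf_assoc, inf_eq_left.mpr (inf_le_right : S ⊓ U ≤ U)]]
    exact subsingleton_HU_iUnion (Coh.toAb M) (IsBasicIn U) IsBasicIn.inf
      (fun h m => affine_vanishing M (h.isAffineOpen hU) m) t _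
      (fun i => (hB i).inf ⟨b, rfl⟩) n (by omega)
  haveI := hd M hM a (n + 1) (by omega)
  haveI : Subsingleton (HU (U ⊓ X.basicOpen a) (Coh.toAb M) (n + 1)) :=
    hb ▸ affine_vanishing M (hU.basicOpen b) n
  rw [inf_sup_right]
  exact subsingleton_HU_sup (Coh.toAb M) _ _ n

/-- Higher direct images vanish in high degrees over a quasi-compact base. -/
theorem exists_bound_rpushAb {S : Scheme.{u}} (f : X ⟶ S) [QuasiCompact f] [QuasiSeparated f] [CompactSpace S] :
    ∃ n : ℕ, ∀ (M : X.Modules), Coh.IsQCoh M → ∀ p : ℕ, n ≤ p →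
      IsZero ((Coh.RpushAb f p).obj (Coh.toAb M)) := by
  classical
  obtain ⟨s, hs, hseq⟩ := isCompact_iff_finite_and_eq_biUnion_affineOpens.mp
    (show IsCompact ((⊤ : S.Opens) : Set S) from isCompact_univ)
  have key : ∀ V : S.affineOpens, ∃ d : ℕ, ∀ (M : X.Modules), Coh.IsQCoh M → ∀ (g : Γ(S, V.1)) (p : ℕ), d ≤ p →
      Subsingleton (HU (f ⁻¹ᵁ S.basicOpen g) (Coh.toAb M) p) := fun V => by
    obtain ⟨d, hd⟩ := exists_bound_basicOpen (f.isQuasiSeparated_preimage V.2.isQuasiSeparated) (f ⁻¹ᵁ V.1) le_rfl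
      (f.isCompact_preimage V.2.isCompact)
    refine ⟨d, fun M hM g p hp => ?_⟩
    rw [Scheme.preimage_basicOpen, ← inf_eq_right.mpr (X.basicOpen_le (f.app V.1 g))]
    exact hd M hM _ p hp
  choose d hd using key
  refine ⟨hs.toFinset.sup d + 1, fun M hM p hp => ?_⟩
  obtain ⟨n, rfl⟩ : ∃ n, p = n + 1 := ⟨p - 1, by omega⟩
  refine isZero_rightDerived_at f.base (B := fun U => ∃ V ∈ s, ∃ g : Γ(S, V.1), U = S.basicOpen g)
    (fun W y hy => ?_) (Coh.toAb M) n ?_
  · obtain ⟨V, hV, hyV⟩ : ∃ V ∈ s, y ∈ (V : S.Opens) := by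
      have hy' : y ∈ (⊤ : S.Opens) := trivial
      rw [hseq] at hy'
      simpa [Opens.mem_iSup] using hy'
    obtain ⟨g, hgW, hyg⟩ := V.2.exists_basicOpen_le (V := W) ⟨y, hy⟩ hyV
    exact ⟨S.basicOpen g, ⟨V, hV, g, rfl⟩, hyg, hgW⟩
  · rintro _ ⟨V, hV, g, rfl⟩
    exact hd V M hM g (n + 1) (by
      have := Finset.le_sup (f := d) (hs.mem_toFinset.mpr hV)
      omega)

end Groth.Agent.RpushLib
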