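import Groth.Agent.RpushLib.Finite
import Groth.Agent.RpushLib.ToAb
import Groth.Agent.DCohLib.ClosedPush

/-!
# Higher direct images and closed immersions
-/

set_option autoImplicit false

universe u

open CategoryTheory Limits Opposite TopologicalSpace AlgebraicGeometry
open Groth.Agent.CohBase

noncomputable section

namespace Groth.Agent.RpushLib

variable {X Y Z : Scheme.{u}}

instance faithful_toAbF : (QCohLib.toAbF X).Faithful :=
  inferInstanceAs (SheafOfModules.toSheaf.{u} X.ringCatSheaf).Faithful

/-- Flasque modules are acyclic for direct images. -/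
theorem isAcyclicFor_flasque (f : X ⟶ Y) (I : X.Modules)
    (hI : ∀ {V V' : X.Opens} (h : V ≤ V'), Function.Surjective (rM I h)) :
    SpSeqLib.IsAcyclicFor (Scheme.Modules.pushforward f) I := fun p => by
  haveI : TopCat.Sheaf.IsFlasque (Coh.toAb I) := LocZLib.isFlasque_of_surjective _ fun h => hI h
  have h0 : IsZero ((QCohLib.toAbF Y).obj ((Coh.Rpush f (p + 1)).obj I)) :=
    (CohTopEasy.isZero_Rpush_flasque f.base (Coh.toAb I) p).of_iso ((toAbRpushIso f (p + 1)).app I)
  rw [IsZero.iff_id_eq_zero]
  refine (QCohLib.toAbF Y).map_injective ?_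
  rw [CategoryTheory.Functor.map_id, Functor.map_zero]
  exact h0.eq_of_src _ _

variable (i : Z ⟶ X) [IsClosedImmersion i]

instance : PreservesFiniteColimits (Scheme.Modules.pushforward i) :=
  haveI : (Scheme.Modules.pushforward i).PreservesHomology :=
    Functor.preservesHomology_of_preservesEpis_and_kernels _
  Functor.preservesFiniteColimits_of_preservesHomology _

/-- Direct images along a closed immersion can be composed. -/
def rpushClosedIso [HasInjectiveResolutions X.Modules] [HasInjectiveResolutions Z.Modules] (f : X ⟶ Y) (p : ℕ) :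
    Coh.Rpush (i ≫ f) p ≅ Scheme.Modules.pushforward i ⋙ Coh.Rpush f p :=
  SpSeqLib.rightDerivedCongr (Scheme.Modules.pushforwardComp i f).symm p ≪≫
    SpSeqLib.rightDerivedPrecompAcyclicIso (Scheme.Modules.pushforward i) (Scheme.Modules.pushforward f)
      (fun I _ => isAcyclicFor_flasque f _ fun h => surjective_rM_injective I (i.preimage_mono h)) p

end Groth.Agent.RpushLib
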