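import Groth.Agent.RpushLib.Finite

/-!
# Sections of higher direct images over affine opens, linearly over the base
-/

set_option autoImplicit false

universe u

open CategoryTheory Limits Opposite TopologicalSpace AlgebraicGeometry
open Groth.Agent.CohBase

noncomputable section

namespace Groth.Agent.RpushLib

variable {X : Scheme.{u}} {M : X.Modules} (R : InjectiveResolution M) (U : X.Opens)

/-- Dimension shifting on an open subscheme, linearly over its functions. -/
theorem nonempty_shift_linear : ∀ (p m : ℕ),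
    Nonempty (Coh.HH U.toScheme (seqU R U p).X₁ (m + 1) ≃ₗ[Coh.Γtop U.toScheme]
      Coh.HH U.toScheme (M.restrict U.ι) (p + m + 1))
  | 0, m => by
    rw [zero_add]
    exact ⟨ProjCoh.hhLinearEquiv ((Scheme.Modules.restrictFunctor U.ι).mapIso (zeroIso R).symm) (m + 1)⟩
  | p + 1, m => by
    obtain ⟨e⟩ := nonempty_shift_linear p (m + 1)
    rw [show p + 1 + m + 1 = p + (m + 1) + 1 by omega]
    exact ⟨(LinearEquiv.ofBijective (δH (seqU_shortExact R U p) (m + 1))
      (δH_bijective (seqU_shortExact R U p) (m + 1) (subsingleton_seqU R U p m)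
        (subsingleton_seqU R U p (m + 1)))).trans e⟩

variable {S : Scheme.{u}} (f : X ⟶ S) [QuasiCompact f] [QuasiSeparated f]

/-- Restriction of global sections to an open subscheme. -/
theorem bijective_rM_restrict (N : X.Modules) :
    Function.Bijective (rM N (Scheme.Opens.ι_image_top U).le) :=
  ⟨Function.LeftInverse.injective (g := rM N (Scheme.Opens.ι_image_top U).ge) fun z =>
      (rM_rM _ _ _ _).trans (restr_self _ _ _),
    fun b => ⟨rM N (Scheme.Opens.ι_image_top U).ge b, (rM_rM _ _ _ _).trans (restr_self _ _ _)⟩⟩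

/-- Sections of higher direct images over affine opens, linearly. -/
theorem exists_sections_equiv [Coh.IsQCoh M] [HasInjectiveResolutions X.Modules] (p : ℕ) {W : S.Opens}
    (hW : IsAffineOpen W) :
    ∃ e : Γ((Coh.Rpush f p).obj M, W) ≃+ Coh.HH (f ⁻¹ᵁ W).toScheme (M.restrict (f ⁻¹ᵁ W).ι) p,
      ∀ (a : Γ(S, W)) s, e (a • s) = preTop f W a • e s := by
  let U := f ⁻¹ᵁ W
  have hU : U.ι ''ᵁ ⊤ = U := Scheme.Opens.ι_image_top U
  cases p with
  | zero =>
    let φ := (Scheme.Modules.pushforward f).rightDerivedZeroIsoSelf.app M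
    let e1 : Γ((Coh.Rpush f 0).obj M, W) ≃+ Γ((Scheme.Modules.pushforward f).obj M, W) :=
      (((Scheme.Modules.toPresheaf S).mapIso φ).app (op W)).addCommGroupIsoToAddEquiv
    let t : Γ(M, U) ≃+ Γ(M.restrict U.ι, ⊤) := AddEquiv.ofBijective (rM M hU.le) (bijective_rM_restrict U M)
    let e : Γ((Coh.Rpush f 0).obj M, W) ≃+ Coh.HH U.toScheme (M.restrict U.ι) 0 :=
      (e1.trans t).trans (h0Γ (M.restrict U.ι))
    refine ⟨e, fun a s => ?_⟩
    show h0Γ (M.restrict U.ι) (t (e1 (a • s))) = preTop f W a • h0Γ (M.restrict U.ι) (t (e1 s))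
    refine Eq.trans ?_ (h0Γ_smul _ _ _)
    refine congrArg _ (Eq.trans (congrArg t (Scheme.Modules.Hom.app_smul φ.hom a s)) ?_)
    exact rM_smul_restrict _ U hU.le (f.app W a) _
  | succ p =>
    let R := injectiveResolution M
    obtain ⟨hs, hk⟩ := δΓ_spec (seqU_shortExact R U p) (subsingleton_seqU R U p 0)
    obtain ⟨E⟩ := nonempty_shift_linear R U p 0
    have hl := locImage f R p
    let t : Γ(Z R (p + 1), U) →+ Γ((seqU R U p).X₃, ⊤) := rM (Z R (p + 1)) hU.le
    have ht : Function.Bijective t := bijective_rM_restrict U (Z R (p + 1))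
    let H := Coh.HH U.toScheme (seqU R U p).X₁ 1
    letI : Module Γ(S, W) H := Module.compHom H (preTop f W)
    let θ : Γ((Scheme.Modules.pushforward f).obj (Z R (p + 1)), W) →ₗ[Γ(S, W)] H :=
      { toFun := fun s => δΓ (seqU_shortExact R U p) (t s)
        map_add' := fun a b => by rw [← map_add (δΓ (seqU_shortExact R U p)), ← map_add t]; rfl
        map_smul' := fun a s => by
          show _ = preTop f W a • δΓ (seqU_shortExact R U p) (t s)
          refine Eq.trans ?_ (δΓ_smul _ _ _)
          exact congrArg _ (rM_smul_restrict _ U hU.le (f.app W a) _) }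
    have hθ : Function.Surjective θ := hs.comp ht.2
    let q := QCohLib.appLinear (cokernel.π (pushπ f R p)) W
    have hq : Function.Surjective q := hl.coker_surjective hW
    have hker : LinearMap.ker θ = LinearMap.ker q := by
      ext s
      rw [LinearMap.mem_ker, LinearMap.mem_ker]
      refine (hk (t s)).trans ⟨?_, fun h => ?_⟩
      · rintro ⟨j, hj⟩
        let j' : Γ(R.cocomplex.X p, U) := rM (R.cocomplex.X p) hU.ge j
        have : (zπ R p).app U j' = s := by
          refine ht.1 ?_
          show rM _ hU.le ((zπ R p).app U j') = t s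
          rw [← app_rM, show rM (R.cocomplex.X p) hU.le j' = j from (rM_rM _ _ _ _).trans (restr_self _ _ _)]
          exact hj
        exact (congrArg q this).symm.trans (coker_app_app (φ := pushπ f R p) W j')
      · obtain ⟨j, hj⟩ := hl.coker_exact hW s h
        refine ⟨rM (R.cocomplex.X p) hU.le j, ?_⟩
        exact (app_rM (zπ R p) hU.le j).trans (congrArg (rM (Z R (p + 1)) hU.le) hj)
    let e2 : Γ(cokernel (pushπ f R p), W) ≃ₗ[Γ(S, W)] H :=
      (q.quotKerEquivOfSurjective hq).symm.trans
        ((Submodule.quotEquivOfEq _ _ hker.symm).trans (θ.quotKerEquivOfSurjective hθ))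
    let φ := rpushIso f R p
    let e1 : Γ((Coh.Rpush f (p + 1)).obj M, W) ≃+ Γ(cokernel (pushπ f R p), W) :=
      (((Scheme.Modules.toPresheaf S).mapIso φ).app (op W)).addCommGroupIsoToAddEquiv
    let e : Γ((Coh.Rpush f (p + 1)).obj M, W) ≃+ Coh.HH U.toScheme (M.restrict U.ι) (p + 1) :=
      (e1.trans e2.toAddEquiv).trans E.toAddEquiv
    refine ⟨e, fun a s => ?_⟩
    show E (e2 (e1 (a • s))) = preTop f W a • E (e2 (e1 s))
    rw [← map_smul]
    refine congrArg E ?_
    refine (congrArg e2 (Scheme.Modules.Hom.app_smul φ.hom a s)).trans ?_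
    exact map_smul e2 a _

end Groth.Agent.RpushLib
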