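import Groth.Agent.RpushLib.Sections
import Groth.Agent.FlatBC.Scheme
import Groth.Agent.FlatLocus.ModInjFlat

/-!
# Stalks of higher direct images are cohomology over the local ring
-/

set_option autoImplicit false

universe u

open CategoryTheory Limits Opposite TopologicalSpace AlgebraicGeometry
open Groth.Agent.CohBase
open scoped TensorProduct

noncomputable section

namespace Groth.Agent.RpushLib

variable {X Y : Scheme.{u}} (f : X ⟶ Y)

/-- The part of `X` over the local ring at a point of an affine open. -/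
theorem exists_lift_isPullback (y : Y) {W : Y.Opens} (hW : IsAffineOpen W) (hy : y ∈ W)
    {X₁ : Scheme.{u}} (g : X₁ ⟶ X) (f₁ : X₁ ⟶ Spec (Y.presheaf.stalk y))
    (hsq : IsPullback g f₁ f (Y.fromSpecStalk y)) :
    ∃ g₁ : X₁ ⟶ (f ⁻¹ᵁ W).toScheme, g₁ ≫ (f ⁻¹ᵁ W).ι = g ∧
      IsPullback g₁ f₁ ((f ∣_ W) ≫ hW.isoSpec.hom) (Spec.map (Y.presheaf.germ W y hy)) := by
  have hsq₁ : IsPullback (f ⁻¹ᵁ W).ι ((f ∣_ W) ≫ hW.isoSpec.hom) f hW.fromSpec := by
    refine (isPullback_morphismRestrict f W).flip.of_iso (Iso.refl _) (Iso.refl _) hW.isoSpec (Iso.refl _)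
      (by simp) (by simp) (by simp) (by simp [IsAffineOpen.isoSpec_hom_fromSpec])
  have hfs : Y.fromSpecStalk y = Spec.map (Y.presheaf.germ W y hy) ≫ hW.fromSpec :=
    (IsAffineOpen.fromSpecStalk_eq_fromSpecStalk hW hy).symm
  have hrange : Set.range g ⊆ Set.range (f ⁻¹ᵁ W).ι := by
    rw [Scheme.Opens.range_ι]
    rintro _ ⟨z, rfl⟩
    show f (g z) ∈ W
    rw [← Scheme.Hom.comp_apply, hsq.w, Scheme.Hom.comp_apply]
    have h := Set.mem_range_self (f := Y.fromSpecStalk y) (f₁ z)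
    rw [Scheme.range_fromSpecStalk] at h
    exact h.mem_open W.2 hy
  let g₁ : X₁ ⟶ (f ⁻¹ᵁ W).toScheme := IsOpenImmersion.lift (f ⁻¹ᵁ W).ι g hrange
  have hg₁ : g₁ ≫ (f ⁻¹ᵁ W).ι = g := IsOpenImmersion.lift_fac _ _ _
  have hw : g₁ ≫ ((f ∣_ W) ≫ hW.isoSpec.hom) = f₁ ≫ Spec.map (Y.presheaf.germ W y hy) := by
    refine (cancel_mono hW.fromSpec).mp ?_
    refine (Category.assoc _ _ _).trans ((congrArg (g₁ ≫ ·) hsq₁.w.symm).trans ?_)
    refine (Category.assoc _ _ _).symm.trans ((congrArg (· ≫ f) hg₁).trans (hsq.w.trans ?_))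
    exact (congrArg (_ ≫ ·) hfs).trans (Category.assoc _ _ _).symm
  exact ⟨g₁, hg₁, IsPullback.of_right (by rw [hg₁, ← hfs]; exact hsq) hw hsq₁⟩

/-- Flat base change to a local ring of an affine base. -/
theorem nonempty_localBaseChange {U X₁ : Scheme.{u}} {R : CommRingCat.{u}} {O : CommRingCat.{u}} (φ : R ⟶ O)
    (hφ : φ.hom.Flat) (p₁ : U ⟶ Spec R) [X₁.Over (Spec (CommRingCat.of O))] (g₁ : X₁ ⟶ U)
    (h : IsPullback g₁ (X₁ ↘ Spec (CommRingCat.of O)) p₁ (Spec.map φ))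
    [CompactSpace U] [QuasiSeparatedSpace U] (N : U.Modules) [Coh.IsQCoh N] (p : ℕ) :
    letI : Algebra R O := φ.hom.toAlgebra
    letI : Module R (Coh.HH U N p) := Module.compHom _ (Coh.toGlobal (A := R) p₁)
    Nonempty (O ⊗[R] Coh.HH U N p ≃ₗ[O] Coh.HH X₁ ((Scheme.Modules.pullback g₁).obj N) p) := by
  letI : Algebra R O := φ.hom.toAlgebra
  haveI : Module.Flat R O := hφ
  exact FlatBC.nonempty_affine h N (Scheme.ΓSpecIso R).symm.commRingCatIsoToRingEquiv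
    (Scheme.ΓSpecIso O).symm.commRingCatIsoToRingEquiv
    (fun x => (congr($(Scheme.ΓSpecIso_inv_naturality φ) x)).symm) p

variable [QuasiCompact f] [QuasiSeparated f]

omit [QuasiCompact f] [QuasiSeparated f] in
/-- Base change along a localization, transported along a semilinear equivalence. -/
theorem nonempty_tensor_of_localized {A O : Type u} [CommRing A] [CommRing O] [Algebra A O] (S : Submonoid A)
    [IsLocalization S O] {C St H : Type u} [AddCommGroup C] [Module A C] [AddCommGroup St] [Module A St]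
    [Module O St] [IsScalarTower A O St] [AddCommGroup H] [Module A H] (g : C →ₗ[A] St) [IsLocalizedModule S g]
    (e : C ≃+ H) (he : ∀ (a : A) c, e (a • c) = a • e c) : Nonempty (St ≃ₗ[O] O ⊗[A] H) :=
  ⟨(IsLocalizedModule.isBaseChange S O g).equiv.symm.trans (TensorProduct.AlgebraTensorModule.congr
    (LinearEquiv.refl O O) { e with map_smul' := he })⟩

/-- The stalk is the localization of the cohomology over an affine open. -/
theorem nonempty_stalk_tensor [HasInjectiveResolutions X.Modules] (M : X.Modules) [Coh.IsQCoh M] (y : Y) (p : ℕ)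
    {W : Y.Opens} (hW : IsAffineOpen W) (hy : y ∈ W) :
    letI : Algebra Γ(Y, W) (Y.presheaf.stalk y) := (Y.presheaf.germ W y hy).hom.toAlgebra
    letI : Module Γ(Y, W) (Coh.HH (f ⁻¹ᵁ W).toScheme (M.restrict (f ⁻¹ᵁ W).ι) p) :=
      Module.compHom _ (Coh.toGlobal (A := Γ(Y, W)) ((f ∣_ W) ≫ hW.isoSpec.hom))
    Nonempty (((Coh.Rpush f p).obj M).presheaf.stalk y ≃ₗ[Y.presheaf.stalk y]
      (Y.presheaf.stalk y) ⊗[Γ(Y, W)] Coh.HH (f ⁻¹ᵁ W).toScheme (M.restrict (f ⁻¹ᵁ W).ι) p) := by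
  letI : Algebra Γ(Y, W) (Y.presheaf.stalk y) := (Y.presheaf.germ W y hy).hom.toAlgebra
  letI : Module Γ(Y, W) (Coh.HH (f ⁻¹ᵁ W).toScheme (M.restrict (f ⁻¹ᵁ W).ι) p) :=
    Module.compHom _ (Coh.toGlobal (A := Γ(Y, W)) ((f ∣_ W) ≫ hW.isoSpec.hom))
  let C := (Coh.Rpush f p).obj M
  haveI : Coh.IsQCoh C := isQCoh_rpush f p
  obtain ⟨e₀, he₀⟩ := exists_sections_equiv (M := M) f p hW
  haveI : IsLocalization.AtPrime (Y.presheaf.stalk y) (hW.primeIdealOf ⟨y, hy⟩).asIdeal :=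
    hW.isLocalization_stalk ⟨y, hy⟩
  letI := Module.compHom (C.presheaf.stalk y) (Y.presheaf.germ W y hy).hom
  haveI : IsScalarTower Γ(Y, W) (Y.presheaf.stalk y) (C.presheaf.stalk y) := .of_algebraMap_smul fun _ _ => rfl
  haveI := FlatLocus.isLocalizedModule_germL C hW y hy
  refine nonempty_tensor_of_localized (hW.primeIdealOf ⟨y, hy⟩).asIdeal.primeCompl (FlatLocus.germL C W y hy) e₀ ?_
  intro r s
  refine (he₀ r s).trans ?_
  rw [← toGlobal_eq f hW]
  rfl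

omit [QuasiCompact f] [QuasiSeparated f] in
/-- Isomorphic modules have isomorphic cohomology, linearly over the base. -/
theorem nonempty_hh_congr {X₁ : Scheme.{u}} (R : Type u) [CommRing R] [X₁.Over (Spec (CommRingCat.of R))]
    {N N' : X₁.Modules} (e : N ≅ N') (p : ℕ) : Nonempty (Coh.HH X₁ N p ≃ₗ[R] Coh.HH X₁ N' p) :=
  ⟨{ (ProjCoh.hhLinearEquiv e p).toAddEquiv with
      map_smul' := fun r x => map_smul (ProjCoh.hhLinearEquiv e p)
        (Coh.toGlobal (X₁ ↘ Spec (CommRingCat.of R)) r) x }⟩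

/-- The stalk of a higher direct image is the cohomology of the pullback to the local ring. -/
theorem nonempty_stalk_equiv [HasInjectiveResolutions X.Modules] (M : X.Modules) [Coh.IsQCoh M] (y : Y) (p : ℕ)
    (X₁ : Scheme.{u}) [X₁.Over (Spec (CommRingCat.of (Y.presheaf.stalk y)))] (g : X₁ ⟶ X)
    (hsq : IsPullback g (X₁ ↘ Spec (CommRingCat.of (Y.presheaf.stalk y))) f (Y.fromSpecStalk y)) :
    Nonempty (((Coh.Rpush f p).obj M).presheaf.stalk y ≃ₗ[Y.presheaf.stalk y]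
      Coh.HH X₁ ((Scheme.Modules.pullback g).obj M) p) := by
  obtain ⟨_, ⟨W : Y.Opens, (hW : IsAffineOpen W), rfl⟩, (hy : y ∈ W), -⟩ :=
    Y.isBasis_affineOpens.exists_subset_of_mem_open (Set.mem_univ y) isOpen_univ
  obtain ⟨g₁, hg₁, hsq₂⟩ := exists_lift_isPullback f y hW hy g _ hsq
  haveI : CompactSpace (f ⁻¹ᵁ W).toScheme := isCompact_iff_compactSpace.mp (f.isCompact_preimage hW.isCompact)
  haveI : QuasiSeparatedSpace (f ⁻¹ᵁ W).toScheme :=
    isQuasiSeparated_iff_quasiSeparatedSpace ((f ⁻¹ᵁ W : X.Opens) : Set X) (f ⁻¹ᵁ W).2 |>.mp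
      (f.isQuasiSeparated_preimage hW.isQuasiSeparated)
  haveI : Coh.IsQCoh (M.restrict (f ⁻¹ᵁ W).ι) :=
    (SheafOfModules.isQuasicoherent (f ⁻¹ᵁ W).toScheme.ringCatSheaf).prop_of_iso
      ((Scheme.Modules.restrictFunctorIsoPullback (f ⁻¹ᵁ W).ι).app M).symm
      (PullbackMod.isQCoh_pullback (f ⁻¹ᵁ W).ι M)
  have hflat : (Y.presheaf.germ W y hy).hom.Flat := by
    letI : Algebra Γ(Y, W) (Y.presheaf.stalk y) := (Y.presheaf.germ W y hy).hom.toAlgebra
    haveI : IsLocalization.AtPrime (Y.presheaf.stalk y) (hW.primeIdealOf ⟨y, hy⟩).asIdeal :=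
      hW.isLocalization_stalk ⟨y, hy⟩
    exact IsLocalization.flat (Y.presheaf.stalk y) (hW.primeIdealOf ⟨y, hy⟩).asIdeal.primeCompl
  obtain ⟨e₀⟩ := nonempty_stalk_tensor f M y p hW hy
  obtain ⟨e₁⟩ := nonempty_localBaseChange (Y.presheaf.germ W y hy) hflat _ g₁ hsq₂ (M.restrict (f ⁻¹ᵁ W).ι) p
  obtain ⟨e₂⟩ := nonempty_hh_congr (Y.presheaf.stalk y)
    ((Scheme.Modules.pullback g₁).mapIso ((Scheme.Modules.restrictFunctorIsoPullback (f ⁻¹ᵁ W).ι).app M) ≪≫
      (Scheme.Modules.pullbackComp g₁ (f ⁻¹ᵁ W).ι).app M ≪≫ (Scheme.Modules.pullbackCongr hg₁).app M) p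
  exact ⟨e₀.trans (e₁.trans e₂)⟩

end Groth.Agent.RpushLib
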