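import Groth.Agent.RpushLib.Coker
import Groth.Agent.SiteBase.ModCoh
import Groth.Agent.LocZLib.Flasque
import Mathlib.CategoryTheory.Abelian.RightDerived

/-!
# The steps of an injective resolution of a quasi-coherent module
-/

set_option autoImplicit false

universe u

open CategoryTheory Limits Opposite TopologicalSpace AlgebraicGeometry
open Groth.Agent.CohBase

noncomputable section

namespace Groth.Agent.RpushLib

variable {X : Scheme.{u}}

/-- The first connecting map on sections. -/
theorem exists_hom_one {T : ShortComplex (AbSh X)} (hT : T.ShortExact) (U : X.Opens)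
    [Subsingleton (HU U T.X₂ 1)] :
    ∃ δ : T.X₃.obj.obj (op U) →+ HU U T.X₁ 1, Function.Surjective δ ∧
      ∀ s, δ s = 0 ↔ ∃ j, T.g.hom.app (op U) j = s := by
  refine ⟨(hδ hT U 0).comp (H0Equiv U T.X₃).symm.toAddMonoidHom,
    (hδ_surjective hT U 0).comp (H0Equiv U T.X₃).symm.surjective, fun s => ?_⟩
  refine (hδ_eq_zero_iff hT U 0 _).trans ⟨?_, ?_⟩
  · rintro ⟨y, hy⟩
    refine ⟨H0Equiv U T.X₂ y, ?_⟩
    rw [← H0Equiv_hmap, hy]
    exact (H0Equiv U T.X₃).apply_symm_apply s
  · rintro ⟨j, rfl⟩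
    refine ⟨(H0Equiv U T.X₂).symm j, (H0Equiv U T.X₃).injective ?_⟩
    rw [H0Equiv_hmap, AddEquiv.apply_symm_apply]
    exact ((H0Equiv U T.X₃).apply_symm_apply _).symm

variable {M : X.Modules} (R : InjectiveResolution M)

/-- The cycles. -/
abbrev Z (p : ℕ) : X.Modules := kernel (R.cocomplex.d p (p + 1))

/-- The inclusion of cycles. -/
abbrev zι (p : ℕ) : Z R p ⟶ R.cocomplex.X p := kernel.ι _

/-- The map to the next cycles. -/
abbrev zπ (p : ℕ) : R.cocomplex.X p ⟶ Z R (p + 1) :=
  kernel.lift _ (R.cocomplex.d p (p + 1)) (R.cocomplex.d_comp_d _ _ _)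

lemma zπ_ι (p : ℕ) : zπ R p ≫ zι R (p + 1) = R.cocomplex.d p (p + 1) :=
  kernel.lift_ι _ _ _

lemma zι_π (p : ℕ) : zι R p ≫ zπ R p = 0 := by
  rw [← cancel_mono (zι R (p + 1)), Category.assoc, zπ_ι, kernel.condition, zero_comp]

/-- The short exact sequence of cycles. -/
abbrev seq (p : ℕ) : ShortComplex X.Modules := ShortComplex.mk (zι R p) (zπ R p) (zι_π R p)

lemma seq_shortExact (p : ℕ) : (seq R p).ShortExact := by
  haveI : Mono (seq R p).f := inferInstanceAs (Mono (zι R p))
  haveI : Epi (seq R p).g := by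
    have h := R.cocomplex_exactAt_succ p
    rw [HomologicalComplex.exactAt_iff' _ p (p + 1) (p + 2) (by simp) (by simp),
      ShortComplex.exact_iff_epi_kernel_lift] at h
    exact h
  refine ShortComplex.ShortExact.mk' ?_ inferInstance inferInstance
  exact ShortComplex.exact_of_f_is_kernel _ (KernelFork.IsLimit.ofι' _ _ fun {A} g hg =>
    ⟨kernel.lift _ g ((congrArg (g ≫ ·) (zπ_ι R p).symm).trans ((Category.assoc _ _ _).symm.trans
      ((congrArg (· ≫ zι R (p + 1)) hg).trans zero_comp))), kernel.lift_ι _ _ _⟩)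

/-- The first cycles are the module. -/
def zeroIso : M ≅ Z R 0 :=
  (IsLimit.conePointUniqueUpToIso R.isLimitKernelFork (kernelIsKernel (R.cocomplex.d 0 1)) :)

lemma surjective_rM_injective (I : X.Modules) [Injective I] {V V' : X.Opens} (h : V ≤ V') :
    Function.Surjective (rM I h) :=
  haveI : Mono (homOfLE h) := ⟨fun _ _ _ => Subsingleton.elim _ _⟩
  haveI : Injective (C := SheafOfModules X.ringCatSheaf) I := ‹Injective I›
  SiteBase.surjective_map_of_injective X.ringCatSheaf I (homOfLE h)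

lemma subsingleton_HU_injective (I : X.Modules) [Injective I] (V : X.Opens) (n : ℕ) :
    Subsingleton (HU V (Coh.toAb I) (n + 1)) :=
  haveI : TopCat.Sheaf.IsFlasque (Coh.toAb I) :=
    LocZLib.isFlasque_of_surjective _ fun h => surjective_rM_injective I h
  LocZLib.subsingleton_HU_flasque V n (Coh.toAb I)

instance injective_X (p : ℕ) : Injective (R.cocomplex.X p) := R.injective p

/-- The abelian sequence of cycles. -/
lemma seqAb_shortExact (p : ℕ) : ((seq R p).map (QCohLib.toAbF X)).ShortExact :=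
  QCohLib.toAb_shortExact (seq_shortExact R p)

lemma zι_injective (p : ℕ) (V : X.Opens) : Function.Injective ((zι R p).app V) :=
  QCohLib.app_injective (seq_shortExact R p) V

lemma zι_exact (p : ℕ) (V : X.Opens) (s : Γ(R.cocomplex.X p, V)) (h : (zπ R p).app V s = 0) :
    ∃ t, (zι R p).app V t = s :=
  QCohLib.app_exact (seq_shortExact R p) V s h

variable [Coh.IsQCoh M]

instance isQCoh_zero : Coh.IsQCoh (Z R 0) :=
  (SheafOfModules.isQuasicoherent X.ringCatSheaf).prop_of_iso (zeroIso R) inferInstance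

lemma subsingleton_HU_Z (p : ℕ) : ∀ (m : ℕ) {U : X.Opens}, IsAffineOpen U →
    Subsingleton (HU U (Coh.toAb (Z R p)) (m + 1)) := by
  induction p with
  | zero => intro m U hU; exact affine_vanishing (Z R 0) hU m
  | succ p ih =>
    intro m U hU
    haveI : Subsingleton (HU U ((seq R p).map (QCohLib.toAbF X)).X₂ (m + 1)) :=
      subsingleton_HU_injective (R.cocomplex.X p) U m
    haveI : Subsingleton (HU U ((seq R p).map (QCohLib.toAbF X)).X₁ (m + 1 + 1)) := ih (m + 1) hU
    exact subsingleton_quot (seqAb_shortExact R p) U (m + 1)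

lemma zπ_surjective (p : ℕ) (U : X.Opens) (hU : IsAffineOpen U) : Function.Surjective ((zπ R p).app U) := by
  haveI : Subsingleton (HU U ((seq R p).map (QCohLib.toAbF X)).X₁ 1) := subsingleton_HU_Z R p 0 hU
  exact sections_surjective (seqAb_shortExact R p) U

/-- The cycles modulo the boundaries localize on quasi-separated opens. -/
theorem locOn {W : X.Opens} (hW : IsQuasiSeparated (W : Set X)) (a : Γ(X, W)) :
    ∀ p, LocOn (zπ R p) a := by
  intro p
  have hstep : ∀ q {J' : X.Modules} (π' : J' ⟶ Z R q),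
      (∀ {V V' : X.Opens} (h : V ≤ V') (y : Γ(J', V)), ∃ y', rM (Z R q) h (π'.app V' y') = π'.app V y) →
      IsStep π' (zι R q) (zπ R q) := fun q J' π' h' =>
    { inj := zι_injective R q
      exact := zι_exact R q
      zero := fun V t => congr($(zι_π R q).app V t)
      surj := zπ_surjective R q
      flasque := fun h => surjective_rM_injective _ h
      flasque' := h' }
  induction p with
  | zero =>
    exact (hstep 0 (0 : Z R 0 ⟶ Z R 0) fun {V V'} h y => ⟨0, by
      rw [map_zero, map_zero]; rfl⟩).locOn a hW (locOn_zero a (Z R 0) hW)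
  | succ p ih =>
    exact (hstep (p + 1) (zπ R p) fun {V V'} h y => by
      obtain ⟨y', rfl⟩ := surjective_rM_injective (R.cocomplex.X p) h y
      exact ⟨y', (app_rM _ _ _).symm⟩).locOn a hW ih

omit [Coh.IsQCoh M] in
/-- Dimension shifting along the cycles. -/
theorem nonempty_shift (U : X.Opens) : ∀ (p m : ℕ),
    Nonempty (HU U (Coh.toAb (Z R p)) (m + 1) ≃+ HU U (Coh.toAb (Z R 0)) (p + m + 1))
  | 0, m => by rw [zero_add]; exact ⟨AddEquiv.refl _⟩
  | p + 1, m => by
    obtain ⟨e⟩ := nonempty_shift U p (m + 1)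
    haveI : Subsingleton (HU U ((seq R p).map (QCohLib.toAbF X)).X₂ (m + 1)) :=
      subsingleton_HU_injective (R.cocomplex.X p) U m
    haveI : Subsingleton (HU U ((seq R p).map (QCohLib.toAbF X)).X₂ (m + 1 + 1)) :=
      subsingleton_HU_injective (R.cocomplex.X p) U (m + 1)
    rw [show p + 1 + m + 1 = p + (m + 1) + 1 by omega]
    exact ⟨(AddEquiv.ofBijective _ (hδ_bijective (seqAb_shortExact R p) U (m + 1))).trans e⟩

omit [Coh.IsQCoh M] in
/-- The first cohomology of the cycles. -/
theorem exists_hom_HU (U : X.Opens) (p : ℕ) :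
    ∃ θ : Γ(Z R (p + 1), U) →+ HU U (Coh.toAb M) (p + 1), Function.Surjective θ ∧
      ∀ s, θ s = 0 ↔ ∃ j, (zπ R p).app U j = s := by
  obtain ⟨e⟩ := nonempty_shift R U p 0
  let i : HU U (Coh.toAb (Z R 0)) (p + 1) ≃+ HU U (Coh.toAb M) (p + 1) :=
    { toFun := hmap U ((QCohLib.toAbF X).map (zeroIso R).inv) (p + 1)
      invFun := hmap U ((QCohLib.toAbF X).map (zeroIso R).hom) (p + 1)
      left_inv := fun x => by
        rw [hmap_apply, hmap_apply, Abelian.Ext.comp_assoc_of_third_deg_zero, Abelian.Ext.mk₀_comp_mk₀,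
          ← Functor.map_comp, Iso.inv_hom_id, CategoryTheory.Functor.map_id, Abelian.Ext.comp_mk₀_id]
      right_inv := fun x => by
        rw [hmap_apply, hmap_apply, Abelian.Ext.comp_assoc_of_third_deg_zero, Abelian.Ext.mk₀_comp_mk₀,
          ← Functor.map_comp, Iso.hom_inv_id, CategoryTheory.Functor.map_id, Abelian.Ext.comp_mk₀_id]
      map_add' := map_add _ }
  haveI : Subsingleton (HU U ((seq R p).map (QCohLib.toAbF X)).X₂ 1) :=
    subsingleton_HU_injective (R.cocomplex.X p) U 0
  obtain ⟨δ, hδs, hδk⟩ := exists_hom_one (seqAb_shortExact R p) U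
  exact ⟨(e.trans i).toAddMonoidHom.comp δ, (e.trans i).surjective.comp hδs, fun s =>
    (map_eq_zero_iff _ (e.trans i).injective).trans (hδk s)⟩

end Groth.Agent.RpushLib
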