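import Groth.Agent.RpushLib.Loc

/-!
# Cokernels of maps whose image localizes on affine opens

If the sections of `G` modulo the image of `φ` localize on affine opens, the cokernel of `φ` is
quasi-coherent and is computed on sections over affine opens.
-/

set_option autoImplicit false

universe u

open CategoryTheory Limits Opposite TopologicalSpace AlgebraicGeometry
open Groth.Agent.CohBase

namespace Groth.Agent.RpushLib

variable {X : Scheme.{u}}

/-- Epimorphisms of modules are surjective locally on sections. -/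
lemma exists_local_lift {M N : X.Modules} (c : M ⟶ N) [Epi c] {W : X.Opens} (s : Γ(N, W)) {x : X}
    (hx : x ∈ W) : ∃ (V : X.Opens) (hV : V ≤ W), x ∈ V ∧ ∃ t, c.app V t = rM N hV s := by
  let ψ := (QCohLib.toAbF X).map c
  haveI hloc : Sheaf.IsLocallySurjective ψ :=
    (Sheaf.isLocallySurjective_iff_epi' AddCommGrpCat.{u} ψ).mpr inferInstance
  obtain ⟨V, j, ⟨t, ht⟩, hxV⟩ :=
    Presheaf.imageSieve_mem (Opens.grothendieckTopology X) ψ.hom (U := op W) s x hx
  exact ⟨V, leOfHom j, hxV, t, ht⟩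

/-- Covering an affine open by basic opens inside given neighbourhoods. -/
lemma span_eq_top {W : X.Opens} (hW : IsAffineOpen W) (T : Set Γ(X, W))
    (h : ∀ x ∈ W, ∃ f ∈ T, x ∈ X.basicOpen f) : Ideal.span T = ⊤ :=
  hW.iSup_basicOpen_eq_self_iff.mp (le_antisymm (iSup_le fun f => X.basicOpen_le f.1)
    fun x hx => by
      obtain ⟨f, hf, hxf⟩ := h x hx
      exact Opens.mem_iSup.mpr ⟨⟨f, hf⟩, hxf⟩)

/-- Scalars carrying a section into a subgroup. -/
def colonIdeal {M N : X.Modules} (φ : M ⟶ N) {W : X.Opens} (s : Γ(N, W)) : Ideal Γ(X, W) where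
  carrier := {g | ∃ j, φ.app W j = sc g le_rfl s}
  add_mem' := by
    rintro g g' ⟨j, hj⟩ ⟨j', hj'⟩
    exact ⟨j + j', by rw [map_add, hj, hj', sc_add]⟩
  zero_mem' := ⟨0, by rw [map_zero, sc_zero]⟩
  smul_mem' := by
    rintro r g ⟨j, hj⟩
    exact ⟨sc r le_rfl j, by rw [QCohLib.app_sc, hj, smul_eq_mul, sc_mul]⟩

variable {F G : X.Modules}

/-- The sections of `G` modulo the image of `φ` localize on affine opens. -/
structure LocImage (φ : F ⟶ G) : Prop where
  kill : ∀ (W : X.Opens), IsAffineOpen W → ∀ (g : Γ(X, W)) (s : Γ(G, W)),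
    (∃ j, φ.app _ j = rM G (X.basicOpen_le g) s) → ∃ (n : ℕ) (j : Γ(F, W)), φ.app W j = sc (g ^ n) le_rfl s
  ext : ∀ (W : X.Opens), IsAffineOpen W → ∀ (g : Γ(X, W)) (t : Γ(G, X.basicOpen g)),
    ∃ (n : ℕ) (s : Γ(G, W)), rM G (X.basicOpen_le g) s = sc (g ^ n) (X.basicOpen_le g) t

variable {φ : F ⟶ G} (hφ : LocImage φ)

lemma coker_app_app (W : X.Opens) (j : Γ(F, W)) : (cokernel.π φ).app W (φ.app W j) = 0 :=
  congr($(cokernel.condition φ).app W j)

include hφ

theorem LocImage.coker_exact {W : X.Opens} (hW : IsAffineOpen W) (s : Γ(G, W))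
    (hs : (cokernel.π φ).app W s = 0) : ∃ j, φ.app W j = s := by
  obtain ⟨r, hr⟩ := QCohLib.kernel_app_exact (cokernel.π φ) W s hs
  suffices h : (colonIdeal φ s).radical = ⊤ by
    obtain ⟨j, hj⟩ : (1 : Γ(X, W)) ∈ colonIdeal φ s := by
      rw [Ideal.radical_eq_top.mp h]; exact Submodule.mem_top
    exact ⟨j, hj.trans (sc_one le_rfl s)⟩
  rw [← Ideal.span_eq (colonIdeal φ s).radical]
  refine span_eq_top hW _ fun x hx => ?_
  obtain ⟨V, hV, hxV, t, ht⟩ := exists_local_lift (Abelian.factorThruImage φ) r hx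
  obtain ⟨f, hfV, hxf⟩ := hW.exists_basicOpen_le ⟨x, hxV⟩ hx
  refine ⟨f, ?_, hxf⟩
  obtain ⟨n, j, hj⟩ := hφ.kill W hW f s ⟨rM F hfV t, by
    rw [app_rM, ← Abelian.image.fac φ]
    change rM G hfV ((Abelian.image.ι φ).app V ((Abelian.factorThruImage φ).app V t)) = _
    rw [ht, app_rM, rM_rM]
    exact congrArg (rM G _) hr⟩
  exact ⟨n, j, hj⟩

theorem LocImage.coker_surjective {W : X.Opens} (hW : IsAffineOpen W) :
    Function.Surjective ((cokernel.π φ).app W) := by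
  intro x
  let c := cokernel.π φ
  let T : Set Γ(X, W) := {f | ∃ e, c.app _ e = rM (cokernel φ) (X.basicOpen_le f) x}
  have hT : Ideal.span T = ⊤ := span_eq_top hW T fun y hy => by
    obtain ⟨V, hV, hyV, t, ht⟩ := exists_local_lift c x hy
    obtain ⟨f, hfV, hyf⟩ := hW.exists_basicOpen_le ⟨y, hyV⟩ hy
    exact ⟨f, ⟨rM G hfV t, by rw [app_rM, ht, rM_rM]⟩, hyf⟩
  obtain ⟨T', hT', hspan⟩ := (Ideal.span_eq_top_iff_finite T).mp hT
  suffices h : (colonIdeal c x).radical = ⊤ by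
    obtain ⟨j, hj⟩ : (1 : Γ(X, W)) ∈ colonIdeal c x := by
      rw [Ideal.radical_eq_top.mp h]; exact Submodule.mem_top
    exact ⟨j, hj.trans (sc_one le_rfl x)⟩
  rw [eq_top_iff, ← hspan, Ideal.span_le]
  intro f hf
  obtain ⟨e, he⟩ := hT' hf
  obtain ⟨n, s, hs⟩ := hφ.ext W hW f e
  let d := c.app W s - sc (f ^ n) le_rfl x
  have hd : rM (cokernel φ) (X.basicOpen_le f) d = 0 := by
    rw [map_sub, ← app_rM, hs, QCohLib.app_sc, he, rM_sc, sub_self]
  have key : ∀ g ∈ T', ∃ m : ℕ, rM (cokernel φ) (X.basicOpen_le g) (sc (f ^ m) le_rfl d) = 0 := by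
    intro g hg
    obtain ⟨eg, heg⟩ := hT' hg
    let e' := rM G (X.basicOpen_le g) s - sc (f ^ n) (X.basicOpen_le g) eg
    have he' : c.app _ e' = rM (cokernel φ) (X.basicOpen_le g) d := by
      rw [map_sub, map_sub, app_rM, QCohLib.app_sc, heg, rM_sc]
    let f' : Γ(X, X.basicOpen g) := X.presheaf.map (homOfLE (X.basicOpen_le g)).op f
    have hf' : X.basicOpen f' ≤ X.basicOpen f := (X.basicOpen_res f _).le.trans inf_le_right
    have h0 : c.app (X.basicOpen f') (rM G (X.basicOpen_le f') e') = 0 := by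
      rw [app_rM, he', rM_rM, ← rM_rM (cokernel φ) (X.basicOpen_le f) hf', hd, map_zero]
    obtain ⟨j, hj⟩ := hφ.coker_exact ((hW.basicOpen g).basicOpen f') _ h0
    obtain ⟨m, j', hj'⟩ := hφ.kill _ (hW.basicOpen g) f' e' ⟨j, hj⟩
    refine ⟨m, ?_⟩
    rw [rM_sc, ← sc_res (f ^ m) (X.basicOpen_le g) le_rfl, map_pow, ← he', ← QCohLib.app_sc, ← hj']
    exact coker_app_app _ _
  choose! m hm using key
  let N := T'.sup m
  refine ⟨N + n, sc (f ^ N) le_rfl s, ?_⟩
  rw [QCohLib.app_sc, ← sc_pow, ← sub_eq_zero, ← sc_sub]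
  refine QCohLib.eq_of_cover (cokernel φ) (ι := (T' : Set Γ(X, W))) (W := fun g => X.basicOpen g.1)
    (fun g => X.basicOpen_le g.1) (hW.iSup_basicOpen_eq_self_iff.mpr hspan).ge _ 0 fun g => ?_
  rw [map_zero]
  obtain ⟨k, hk⟩ := Nat.exists_eq_add_of_le (Finset.le_sup (f := m) g.2)
  change rM (cokernel φ) (X.basicOpen_le g.1) (sc (f ^ N) le_rfl d) = 0
  rw [show N = m g.1 + k from hk, add_comm, ← sc_pow, rM_sc, hm g.1 g.2, map_zero]

theorem LocImage.isQCoh_coker : Coh.IsQCoh (cokernel φ) := by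
  refine (QCohLib.isQCoh_iff _).mpr fun W hW => ⟨fun f t => ?_, fun f x hx => ?_⟩
  · obtain ⟨t', rfl⟩ := hφ.coker_surjective (hW.basicOpen f) t
    obtain ⟨n, s, hs⟩ := hφ.ext W hW f t'
    exact ⟨n, (cokernel.π φ).app W s, ((app_rM _ _ s).symm.trans (congrArg _ hs)).trans (QCohLib.app_sc _ _ _ _)⟩
  · obtain ⟨s, rfl⟩ := hφ.coker_surjective hW x
    obtain ⟨j, hj⟩ := hφ.coker_exact (hW.basicOpen f) (rM G (X.basicOpen_le f) s) (by
      rw [app_rM]; exact hx)
    obtain ⟨n, j', hj'⟩ := hφ.kill W hW f s ⟨j, hj⟩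
    exact ⟨n, by rw [← QCohLib.app_sc, ← hj', coker_app_app]⟩

end Groth.Agent.RpushLib
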