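import Groth.Agent.QCohLib.Push
import Groth.Agent.QCohLib.Exact
import Groth.Agent.CohBase.Standard

/-!
# Localization at a function of the steps of a flasque resolution

For an exact sequence `0 → Q' → J → Q → 0` with `J` flasque, the sections of `Q` modulo the image of
`J` localize at a function on compact opens if those of `Q'` do.
-/

set_option autoImplicit false

universe u

open CategoryTheory Limits Opposite TopologicalSpace AlgebraicGeometry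
open Groth.Agent.CohBase

namespace Groth.Agent.RpushLib

variable {X : Scheme.{u}}

lemma rM_sc {M : X.Modules} {W V V' : X.Opens} (a : Γ(X, W)) (h : V ≤ W) (h' : V' ≤ V) (s : Γ(M, V)) :
    rM M h' (sc a h s) = sc a (h'.trans h) (rM M h' s) :=
  map_sc a h h' s

lemma app_rM {M N : X.Modules} (φ : M ⟶ N) {V V' : X.Opens} (h : V' ≤ V) (s : Γ(M, V)) :
    φ.app V' (rM M h s) = rM N h (φ.app V s) :=
  QCohLib.app_res φ h s

lemma sc_sub {M : X.Modules} {W V : X.Opens} (a : Γ(X, W)) (h : V ≤ W) (s t : Γ(M, V)) :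
    sc a h (s - t) = sc a h s - sc a h t :=
  map_sub (sc a h) s t

lemma sc_pow {M : X.Modules} {W V : X.Opens} (a : Γ(X, W)) (m k : ℕ) (h : V ≤ W) (s : Γ(M, V)) :
    sc (a ^ m) h (sc (a ^ k) h s) = sc (a ^ (m + k)) h s := by
  rw [pow_add, sc_mul]

lemma eq_of_sup (M : X.Modules) {S U V : X.Opens} (hS : S ≤ V) (hU : U ≤ V) (hV : V ≤ S ⊔ U)
    (s t : Γ(M, V)) (h1 : rM M hS s = rM M hS t) (h2 : rM M hU s = rM M hU t) : s = t := by
  refine QCohLib.eq_of_cover M (ι := ULift.{u} Bool) (W := fun b => bif b.down then S else U)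
    (fun b => ?_) (fun x hx => ?_) s t fun b => ?_
  · cases b with | up b => cases b <;> assumption
  · rcases hV hx with h | h
    · exact Opens.mem_iSup.mpr ⟨⟨true⟩, h⟩
    · exact Opens.mem_iSup.mpr ⟨⟨false⟩, h⟩
  · cases b with
    | up b => cases b <;> assumption

lemma exists_glue (M : X.Modules) {S U : X.Opens} (s : Γ(M, S)) (t : Γ(M, U))
    (h : rM M (inf_le_left : S ⊓ U ≤ S) s = rM M (inf_le_right : S ⊓ U ≤ U) t) :
    ∃ y : Γ(M, S ⊔ U), rM M le_sup_left y = s ∧ rM M le_sup_right y = t := by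
  let W : ULift.{u} Bool → X.Opens := fun b => bif b.down then S else U
  let sf : ∀ b, Γ(M, W b)
    | ⟨true⟩ => s
    | ⟨false⟩ => t
  have hle : ∀ b, W b ≤ S ⊔ U
    | ⟨true⟩ => le_sup_left
    | ⟨false⟩ => le_sup_right
  have hcov : S ⊔ U ≤ iSup W := sup_le (le_iSup W ⟨true⟩) (le_iSup W ⟨false⟩)
  obtain ⟨y, hy, -⟩ := TopCat.Sheaf.existsUnique_gluing' ⟨M.presheaf, M.isSheaf⟩ W (S ⊔ U)
    (fun b => homOfLE (hle b)) hcov sf (by
      rintro ⟨_ | _⟩ ⟨_ | _⟩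
      · rfl
      · have h' := congrArg (rM M (le_of_eq (inf_comm U S) : U ⊓ S ≤ S ⊓ U)) h
        rw [rM_rM, rM_rM] at h'
        exact h'.symm
      · exact h
      · rfl)
  exact ⟨y, hy ⟨true⟩, hy ⟨false⟩⟩

/-- Sections of the target of `π` on compact opens of `W`, modulo the image, localize at `a`. -/
structure LocOn {J Q : X.Modules} (π : J ⟶ Q) {W : X.Opens} (a : Γ(X, W)) : Prop where
  kill : ∀ (V : X.Opens) (hV : V ≤ W), IsCompact (V : Set X) → ∀ (s : Γ(Q, V)),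
    (∃ j, π.app _ j = rM Q (inf_le_left : V ⊓ X.basicOpen a ≤ V) s) →
      ∃ (n : ℕ) (j : Γ(J, V)), π.app V j = sc (a ^ n) hV s
  ext : ∀ (V : X.Opens) (hV : V ≤ W), IsCompact (V : Set X) → ∀ (t : Γ(Q, V ⊓ X.basicOpen a)),
    ∃ (n : ℕ) (s : Γ(Q, V)), rM Q inf_le_left s = sc (a ^ n) (inf_le_left.trans hV) t

lemma isAffineOpen_inf_basicOpen {U W : X.Opens} (hU : IsAffineOpen U) (h : U ≤ W) (a : Γ(X, W)) :
    IsAffineOpen (U ⊓ X.basicOpen a) :=
  X.basicOpen_res a (homOfLE h).op ▸ hU.basicOpen _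

lemma isCompact_inf {S U W : X.Opens} (hW : IsQuasiSeparated (W : Set X)) (hS : S ≤ W) (hU : U ≤ W)
    (hS' : IsCompact (S : Set X)) (hU' : IsCompact (U : Set X)) :
    IsCompact ((S ⊓ U : X.Opens) : Set X) :=
  hW S U hS S.2 hS' hU U.2 hU'

variable {J' Q' J Q : X.Modules} (π' : J' ⟶ Q') (ι : Q' ⟶ J) (π : J ⟶ Q)

/-- The exactness hypotheses of a step. -/
structure IsStep : Prop where
  inj : ∀ V, Function.Injective (ι.app V)
  exact : ∀ V (s : Γ(J, V)), π.app V s = 0 → ∃ t, ι.app V t = s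
  zero : ∀ V (t : Γ(Q', V)), π.app V (ι.app V t) = 0
  surj : ∀ U : X.Opens, IsAffineOpen U → Function.Surjective (π.app U)
  flasque : ∀ {V V' : X.Opens} (h : V ≤ V'), Function.Surjective (rM J h)
  flasque' : ∀ {V V' : X.Opens} (h : V ≤ V') (y : Γ(J', V)), ∃ y', rM Q' h (π'.app V' y') = π'.app V y

variable {π' ι π} {W : X.Opens} (a : Γ(X, W))

theorem IsStep.kill (hs : IsStep π' ι π) (hW : IsQuasiSeparated (W : Set X)) (h : LocOn π' a)
    (V : X.Opens) (hV : V ≤ W) (hc : IsCompact (V : Set X)) : ∀ (s : Γ(Q, V)),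
      (∃ j, π.app _ j = rM Q (inf_le_left : V ⊓ X.basicOpen a ≤ V) s) →
      ∃ (n : ℕ) (j : Γ(J, V)), π.app V j = sc (a ^ n) hV s := by
  revert hV
  refine compact_open_induction_on V hc ?_ ?_
  · intro hV s _
    haveI : Subsingleton Γ(Q, ⊥) := subsingleton_sections_bot (Coh.toAb Q)
    exact ⟨0, 0, Subsingleton.elim _ _⟩
  intro S hSc ⟨U, hU⟩ ih hV s ⟨j, hj⟩
  have hS : S ≤ W := le_sup_left.trans hV
  have hUW : U ≤ W := le_sup_right.trans hV
  let D := X.basicOpen a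
  obtain ⟨n, jS, hjS⟩ := ih hS (rM Q le_sup_left s)
    ⟨rM J (inf_le_inf le_sup_left le_rfl) j, by rw [app_rM, hj, rM_rM, rM_rM]⟩
  obtain ⟨jU₀, hjU₀⟩ := hs.surj U hU (rM Q le_sup_right s)
  let j₁ := sc (a ^ n) (inf_le_left.trans hV) j
  let jU := sc (a ^ n) hUW jU₀
  have hjU : π.app U jU = sc (a ^ n) hUW (rM Q le_sup_right s) := by
    rw [QCohLib.app_sc, hjU₀]
  obtain ⟨t, ht⟩ := hs.exact (S ⊓ U) (rM J inf_le_left jS - rM J inf_le_right jU) (by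
    rw [map_sub, app_rM, app_rM, hjS, hjU, rM_sc, rM_sc, rM_rM, rM_rM, sub_self])
  obtain ⟨xS, hxS⟩ := hs.exact (S ⊓ D) (rM J inf_le_left jS - rM J (inf_le_inf le_sup_left le_rfl) j₁) (by
    rw [map_sub, app_rM, app_rM, hjS, QCohLib.app_sc, hj, rM_sc, rM_sc, rM_rM, rM_rM, sub_self])
  obtain ⟨xU, hxU⟩ := hs.exact (U ⊓ D) (rM J inf_le_left jU - rM J (inf_le_inf le_sup_right le_rfl) j₁) (by
    rw [map_sub, app_rM, app_rM, hjU, QCohLib.app_sc, hj, rM_sc, rM_sc, rM_rM, rM_rM, sub_self])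
  have hSU : (S ⊓ U) ⊓ D ≤ S ⊓ U := inf_le_left
  have hx : rM Q' hSU t = rM Q' (inf_le_inf inf_le_left le_rfl) xS - rM Q' (inf_le_inf inf_le_right le_rfl) xU := by
    refine hs.inj _ ?_
    rw [map_sub, app_rM, app_rM, app_rM, ht, hxS, hxU, map_sub, map_sub, map_sub, rM_rM, rM_rM, rM_rM, rM_rM,
      rM_rM, rM_rM]
    abel
  obtain ⟨kS, wS₀, hwS⟩ := h.ext S hS hSc xS
  obtain ⟨kU, wU₀, hwU⟩ := h.ext U hUW hU.isCompact xU
  let k := kS + kU
  let wS := sc (a ^ kU) hS wS₀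
  let wU := sc (a ^ kS) hUW wU₀
  let u := sc (a ^ k) (inf_le_left.trans hS) t - (rM Q' inf_le_left wS - rM Q' inf_le_right wU)
  have hu : rM Q' hSU u = 0 := by
    simp only [u, wS, wU, k]
    rw [map_sub, map_sub, rM_sc, rM_rM, rM_rM, rM_sc, rM_sc,
      ← rM_rM Q' (inf_le_left : S ⊓ D ≤ S) (inf_le_inf inf_le_left le_rfl : (S ⊓ U) ⊓ D ≤ S ⊓ D) wS₀,
      ← rM_rM Q' (inf_le_left : U ⊓ D ≤ U) (inf_le_inf inf_le_right le_rfl : (S ⊓ U) ⊓ D ≤ U ⊓ D) wU₀,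
      hwS, hwU, rM_sc, rM_sc, sc_pow, sc_pow, add_comm kU kS, ← sc_sub, hx, sub_self]
  have hSUc : IsCompact ((S ⊓ U : X.Opens) : Set X) := isCompact_inf hW hS hUW hSc hU.isCompact
  obtain ⟨m, y, hy⟩ := h.kill (S ⊓ U) (inf_le_left.trans hS) hSUc u ⟨0, by rw [map_zero, hu]⟩
  obtain ⟨y', hy'⟩ := hs.flasque' (inf_le_left : S ⊓ U ≤ S) y
  let jS' := sc (a ^ (m + k)) hS jS - ι.app S (sc (a ^ m) hS wS + π'.app S y')
  let jU' := sc (a ^ (m + k)) hUW jU - ι.app U (sc (a ^ m) hUW wU)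
  obtain ⟨z, hzS, hzU⟩ := exists_glue J jS' jU' (by
    rw [← sub_eq_zero]
    simp only [jS', jU']
    rw [map_sub, map_sub, rM_sc, rM_sc, ← app_rM, ← app_rM, map_add, rM_sc, rM_sc, hy', hy,
      sub_sub_sub_comm, ← sc_sub, ← ht, ← QCohLib.app_sc, ← map_sub, ← map_sub]
    refine (congrArg (ι.app _) ?_).trans (map_zero _)
    simp only [u, wS, wU, map_sub, map_add, rM_sc, sc_sub, sc_pow]
    abel)
  refine ⟨m + k + n, z, eq_of_sup Q le_sup_left le_sup_right le_rfl _ _ ?_ ?_⟩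
  · rw [← app_rM, hzS, rM_sc]
    simp only [jS']
    rw [map_sub, hs.zero, sub_zero, QCohLib.app_sc, hjS, sc_pow]
  · rw [← app_rM, hzU, rM_sc]
    simp only [jU']
    rw [map_sub, hs.zero, sub_zero, QCohLib.app_sc, hjU, sc_pow]

theorem IsStep.ext (hs : IsStep π' ι π) (hW : IsQuasiSeparated (W : Set X)) (h : LocOn π' a)
    (V : X.Opens) (hV : V ≤ W) (hc : IsCompact (V : Set X)) : ∀ (t : Γ(Q, V ⊓ X.basicOpen a)),
      ∃ (n : ℕ) (s : Γ(Q, V)), rM Q inf_le_left s = sc (a ^ n) (inf_le_left.trans hV) t := by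
  revert hV
  refine compact_open_induction_on V hc ?_ ?_
  · intro hV t
    refine ⟨0, 0, ?_⟩
    haveI : Subsingleton Γ(Q, ⊥) := subsingleton_sections_bot (Coh.toAb Q)
    refine eq_of_sup Q (S := ⊥) (U := ⊥) bot_le bot_le (inf_le_left.trans le_sup_left) _ _ ?_ ?_ <;>
      exact Subsingleton.elim _ _
  intro S hSc ⟨U, hU⟩ ih hV t
  have hS : S ≤ W := le_sup_left.trans hV
  have hUW : U ≤ W := le_sup_right.trans hV
  let D := X.basicOpen a
  obtain ⟨z, hz⟩ := hs.surj (U ⊓ D) (isAffineOpen_inf_basicOpen hU hUW a)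
    (rM Q (inf_le_inf le_sup_right le_rfl) t)
  obtain ⟨z', hz'⟩ := hs.flasque (inf_le_inf le_sup_right le_rfl : U ⊓ D ≤ (S ⊔ U) ⊓ D) z
  let t₁ := t - π.app _ z'
  have ht₁ : rM Q (inf_le_inf le_sup_right le_rfl : U ⊓ D ≤ (S ⊔ U) ⊓ D) t₁ = 0 := by
    rw [map_sub, ← app_rM, hz', hz, sub_self]
  obtain ⟨n, s', hs'⟩ := ih hS (rM Q (inf_le_inf le_sup_left le_rfl) t₁)
  have hSUc : IsCompact ((S ⊓ U : X.Opens) : Set X) := isCompact_inf hW hS hUW hSc hU.isCompact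
  let SU := S ⊓ U
  have h0 : rM Q (inf_le_left : SU ⊓ D ≤ SU) (rM Q inf_le_left s') = 0 := by
    rw [rM_rM, ← rM_rM Q (inf_le_left : S ⊓ D ≤ S) (inf_le_inf inf_le_left le_rfl : SU ⊓ D ≤ S ⊓ D) s', hs',
      rM_sc, rM_rM,
      ← rM_rM Q (inf_le_inf le_sup_right le_rfl : U ⊓ D ≤ (S ⊔ U) ⊓ D)
        (inf_le_inf inf_le_right le_rfl : SU ⊓ D ≤ U ⊓ D) t₁, ht₁, map_zero, map_zero]
  obtain ⟨k, j', hj'⟩ := hs.kill a hW h SU (inf_le_left.trans hS) hSUc (rM Q inf_le_left s')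
    ⟨0, by rw [map_zero, h0]⟩
  obtain ⟨u, hu⟩ := hs.exact (SU ⊓ D) (rM J inf_le_left j') (by
    rw [app_rM, hj', rM_sc, h0, map_zero])
  obtain ⟨m, v, hv⟩ := h.ext SU (inf_le_left.trans hS) hSUc u
  let j'' := sc (a ^ m) (inf_le_left.trans hS) j' - ι.app SU v
  have hj'' : rM J (inf_le_left : SU ⊓ D ≤ SU) j'' = 0 := by
    rw [map_sub, rM_sc, ← app_rM, hv, QCohLib.app_sc, hu, sub_self]
  obtain ⟨y, hy₁, hy₂⟩ := exists_glue J j'' (0 : Γ(J, U ⊓ D)) (by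
    rw [← rM_rM J (inf_le_left : SU ⊓ D ≤ SU)
      (le_inf inf_le_left (inf_le_right.trans inf_le_right) : SU ⊓ (U ⊓ D) ≤ SU ⊓ D) j'', hj'',
      map_zero, map_zero])
  obtain ⟨jU, hjU⟩ := hs.flasque (sup_le inf_le_right inf_le_left : SU ⊔ U ⊓ D ≤ U) y
  have hjU₁ : rM Q (inf_le_right : SU ≤ U) (π.app U jU) =
      sc (a ^ (m + k)) (inf_le_left.trans hS) (rM Q inf_le_left s') := by
    rw [← app_rM, ← rM_rM J (sup_le inf_le_right inf_le_left : SU ⊔ U ⊓ D ≤ U) le_sup_left jU, hjU, hy₁]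
    simp only [j'']
    rw [map_sub, hs.zero, sub_zero, QCohLib.app_sc, hj', sc_pow]
  have hjU₂ : rM Q (inf_le_left : U ⊓ D ≤ U) (π.app U jU) = 0 := by
    rw [← app_rM, ← rM_rM J (sup_le inf_le_right inf_le_left : SU ⊔ U ⊓ D ≤ U) le_sup_right jU, hjU, hy₂,
      map_zero]
  obtain ⟨s₁, hs₁S, hs₁U⟩ := exists_glue Q (sc (a ^ (m + k)) hS s') (π.app U jU) (by
    rw [rM_sc, hjU₁])
  obtain ⟨zz, hzz⟩ := hs.flasque (inf_le_left : (S ⊔ U) ⊓ D ≤ S ⊔ U) z'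
  let N := m + k + n
  refine ⟨N, s₁ + π.app _ (sc (a ^ N) hV zz), ?_⟩
  have key : rM Q (inf_le_left : (S ⊔ U) ⊓ D ≤ S ⊔ U) s₁ = sc (a ^ N) (inf_le_left.trans hV) t₁ := by
    refine eq_of_sup Q (inf_le_inf le_sup_left le_rfl : S ⊓ D ≤ (S ⊔ U) ⊓ D)
      (inf_le_inf le_sup_right le_rfl : U ⊓ D ≤ (S ⊔ U) ⊓ D) (inf_sup_right S U D).le _ _ ?_ ?_
    · rw [rM_rM, ← rM_rM Q (le_sup_left : S ≤ S ⊔ U) (inf_le_left : S ⊓ D ≤ S) s₁, hs₁S, rM_sc, hs', sc_pow,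
        rM_sc]
    · rw [rM_rM, ← rM_rM Q (le_sup_right : U ≤ S ⊔ U) (inf_le_left : U ⊓ D ≤ U) s₁, hs₁U, hjU₂, rM_sc, ht₁,
        map_zero]
  rw [map_add, key, ← app_rM, rM_sc, hzz, QCohLib.app_sc, ← map_add, sub_add_cancel]

/-- The inductive step. -/
theorem IsStep.locOn (hs : IsStep π' ι π) (hW : IsQuasiSeparated (W : Set X)) (h : LocOn π' a) :
    LocOn π a :=
  ⟨hs.kill a hW h, hs.ext a hW h⟩

/-- The start: quasi-coherent modules. -/
theorem locOn_zero (M : X.Modules) [Coh.IsQCoh M] (hW : IsQuasiSeparated (W : Set X)) :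
    LocOn (0 : M ⟶ M) a where
  kill V hV hc s := by
    rintro ⟨j, hj⟩
    let b : Γ(X, V) := X.presheaf.map (homOfLE hV).op a
    have hb : X.basicOpen b = V ⊓ X.basicOpen a := X.basicOpen_res a (homOfLE hV).op
    have h0 : rM M (inf_le_left : V ⊓ X.basicOpen a ≤ V) s = 0 := hj.symm
    obtain ⟨n, hn⟩ := QCohLib.exists_pow_zero_of_isCompact M hc b s (by
      have := congrArg (rM M hb.le) h0
      rw [rM_rM, map_zero] at this
      exact this)
    refine ⟨n, 0, (map_zero _).trans (hn.symm.trans ?_)⟩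
    rw [← sc_res (a ^ n) hV le_rfl s, map_pow]
  ext V hV hc t := by
    let b : Γ(X, V) := X.presheaf.map (homOfLE hV).op a
    have hb : X.basicOpen b = V ⊓ X.basicOpen a := X.basicOpen_res a (homOfLE hV).op
    obtain ⟨n, s, hn⟩ := QCohLib.exists_pow_extend_of_isQuasiSeparated M hc
      (hW.of_subset hV) b (rM M hb.le t)
    refine ⟨n, s, ?_⟩
    have := congrArg (rM M hb.ge) hn
    rw [rM_sc, rM_rM, rM_rM] at this
    rw [← sc_res (a ^ n) hV inf_le_left t, map_pow]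
    refine this.trans ?_
    congr 1
    exact CohBase.restr_self M _ t

end Groth.Agent.RpushLib
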